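import Cfsg.Agent.J4Ten.Fusion
import Cfsg.Agent.J4Local.Eleven.Split

/-!
A complement to the standard subgroup in its normaliser.
-/

set_option autoImplicit false
set_option maxRecDepth 100000
set_option linter.style.haveILetI false
set_option linter.unusedSectionVars false

namespace CfsgLib.J4Ten

open Cfsg CfsgLib.Golay CfsgLib.Golay.SylowCert CfsgLib.J4Eleven Subgroup MulAction
open scoped Pointwise

attribute [local instance] Classical.propDecidable

variable {G : Type*} [Group G] [Finite G] {z : G} {V : Subgroup G} (X : Ctx z V)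

/-- Product of pairs. -/
def pmul (a b : ℕ × ℕ) : ℕ × ℕ := (a.1 ^^^ act a.2 b.1, comp a.2 b.2)

/-- A lift of a member of the series, as a pair. -/
def liftP (i : ℕ) : ℕ × ℕ := (liftC.getD i 0, encL (m24Pc.getD i []))

/-- The pair of a word in the lifts. -/
def evP (n : ℕ) : ℕ → ℕ × ℕ
  | 0 => (0, oneCode)
  | i + 1 => if n.testBit i then pmul (liftP i) (evP n i) else evP n i

theorem compl_spec :
    (((List.range 10).all fun i => decide (liftC.getD i 0 < 2048) && inU (liftC.getD i 0) &&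
      (Cert.permF (m24Pc.getD i []) octMask == octMask)) &&
    ((List.range 10).all fun i =>
      let b := i * (i + 1) / 2
      decide (relW.getD b 0 < 2 ^ i) && (pmul (liftP i) (liftP i) == evP (relW.getD b 0) 10) &&
      (List.range i).all fun j => decide (relW.getD (b + 1 + j) 0 < 2 ^ i) &&
        (pmul (liftP i) (liftP j) == pmul (evP (relW.getD (b + 1 + j) 0) 10) (liftP i))) &&
    ((List.range 16).all fun j => decide (fixN.getD j 0 < 1024) &&
      ((evP (fixN.getD j 0) 10).2 == fixL.getD j 0) &&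
      (if j == 0 then (evP (fixN.getD j 0) 10).1 == 0 else !decide ((evP (fixN.getD j 0) 10).1 ∈ wImg)))) = true := by
  decide +kernel

/-- A group element with given pair. -/
def Ctx.Rep (g : G) (p : ℕ × ℕ) : Prop :=
  p.1 < 2048 ∧ ∃ σ : ↥M24, code (σ : Equiv.Perm GolayPt) = p.2 ∧ g = X.elem p.1 σ

theorem Ctx.rep_mul {g k : G} {a b : ℕ × ℕ} (h : X.Rep g a) (h' : X.Rep k b) : X.Rep (g * k) (pmul a b) := by
  obtain ⟨ha, σ, hσ, rfl⟩ := h
  obtain ⟨hb, τ, hτ, rfl⟩ := h'
  refine ⟨Nat.xor_lt_two_pow (n := 11) ha (act_lt _ _), σ * τ, ?_, ?_⟩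
  · rw [Subgroup.coe_mul, ← comp_code, hσ, hτ]; rfl
  · rw [X.elem_mul hb, hσ]; rfl

theorem Ctx.rep_unique {g k : G} {a : ℕ × ℕ} (h : X.Rep g a) (h' : X.Rep k a) : g = k := by
  obtain ⟨-, σ, hσ, rfl⟩ := h
  obtain ⟨-, τ, hτ, rfl⟩ := h'
  rw [show σ = τ from Subtype.ext (code_injective (hσ.trans hτ.symm))]

/-- The permutation of a member of the series. -/
noncomputable def pcEl (i : ℕ) : ↥M24 :=
  if h : permL (m24Pc.getD i []) ∈ M24 then ⟨_, h⟩ else 1

theorem coe_pcEl {i : ℕ} (hi : i < 10) : (pcEl i : Equiv.Perm GolayPt) = permL (m24Pc.getD i []) := by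
  have hm : permL (m24Pc.getD i []) ∈ M24 :=
    sylT_le (Subgroup.subset_closure ⟨i, hi, rfl⟩)
  rw [pcEl, dif_pos hm]

theorem toList_pcEl {i : ℕ} (hi : i < 10) : toList (pcEl i : Equiv.Perm GolayPt) = m24Pc.getD i [] := by
  rw [coe_pcEl hi]
  exact toList_permL (good_getD pc24 hi).1 (good_getD pc24 hi).2

/-- The lifts. -/
noncomputable def Ctx.lift (i : ℕ) : G := X.elem (liftC.getD i 0) (pcEl i)

/-- A word in the lifts. -/
noncomputable def Ctx.ev (n : ℕ) : ℕ → G
  | 0 => 1
  | i + 1 => if n.testBit i then X.lift i * Ctx.ev n i else Ctx.ev n i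

theorem Ctx.rep_lift {i : ℕ} (hi : i < 10) : X.Rep (X.lift i) (liftP i) := by
  have h := compl_spec
  simp only [Bool.and_eq_true] at h
  have h' := List.all_eq_true.1 h.1.1 i (List.mem_range.2 hi)
  simp only [Bool.and_eq_true, decide_eq_true_eq] at h'
  refine ⟨h'.1.1, pcEl i, ?_, rfl⟩
  rw [code, toList_pcEl hi]
  rfl

theorem Ctx.rep_ev (n : ℕ) : ∀ k ≤ 10, X.Rep (X.ev n k) (evP n k) := by
  intro k
  induction k with
  | zero => intro _; exact ⟨by norm_num [evP], 1, code_one, X.elem_one.symm⟩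
  | succ k ih =>
    intro hk
    rw [Ctx.ev, evP]
    split
    · exact X.rep_mul (X.rep_lift hk) (ih (Nat.le_of_succ_le hk))
    · exact ih (Nat.le_of_succ_le hk)

/-- The subgroup generated by the first lifts. -/
noncomputable def Ctx.liftGroup (k : ℕ) : Subgroup G := Subgroup.closure {g | ∃ i < k, g = X.lift i}

theorem Ctx.ev_mem {n i : ℕ} (hn : n < 2 ^ i) : ∀ k, X.ev n k ∈ X.liftGroup i := by
  intro k
  induction k with
  | zero => exact one_mem _
  | succ k ih =>
    rw [Ctx.ev]
    split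
    · rename_i hb
      refine mul_mem (Subgroup.subset_closure ⟨k, ?_, rfl⟩) ih
      by_contra hk
      rw [Nat.testBit_lt_two_pow (hn.trans_le (Nat.pow_le_pow_right (by norm_num) (not_lt.1 hk)))] at hb
      simp at hb
    · exact ih

theorem Ctx.card_liftGroup : ∀ k ≤ 10, Nat.card (X.liftGroup k) ≤ 2 ^ k := by
  intro k
  induction k with
  | zero =>
    intro _
    have : X.liftGroup 0 = ⊥ := by
      rw [Ctx.liftGroup, Subgroup.closure_eq_bot_iff]
      rintro g ⟨i, hi, -⟩
      exact absurd hi (Nat.not_lt_zero i)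
    rw [this, Subgroup.card_bot, pow_zero]
  | succ k ih =>
    intro hk
    have hk' : k < 10 := hk
    have ih' := ih hk'.le
    set H := X.liftGroup k
    set x := X.lift k
    have h := compl_spec
    simp only [Bool.and_eq_true] at h
    have h' := List.all_eq_true.1 h.1.2 k (List.mem_range.2 hk')
    simp only [Bool.and_eq_true, decide_eq_true_eq, beq_iff_eq, List.all_eq_true, List.mem_range] at h'
    obtain ⟨⟨hb, hsq⟩, hrel⟩ := h'
    have hxx : x * x ∈ H := by
      have h1 := X.rep_mul (X.rep_lift hk') (X.rep_lift hk')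
      rw [hsq] at h1
      rw [X.rep_unique h1 (X.rep_ev _ 10 le_rfl)]
      exact X.ev_mem hb 10
    have hnorm : ∀ a ∈ H, x * a * x⁻¹ ∈ H := by
      have : H.map (MulAut.conj x).toMonoidHom ≤ H := by
        rw [show H = Subgroup.closure {g | ∃ i < k, g = X.lift i} from rfl, MonoidHom.map_closure, Subgroup.closure_le]
        rintro _ ⟨_, ⟨j, hj, rfl⟩, rfl⟩
        obtain ⟨hn, he⟩ := hrel j hj
        show x * X.lift j * x⁻¹ ∈ X.liftGroup k
        have h1 := X.rep_mul (X.rep_lift hk') (X.rep_lift (hj.trans hk'))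
        rw [he] at h1
        rw [X.rep_unique h1 (X.rep_mul (X.rep_ev _ 10 le_rfl) (X.rep_lift hk')), mul_inv_cancel_right]
        exact X.ev_mem hn 10
      exact fun a ha => this ⟨a, ha, rfl⟩
    have hnorm' : ∀ a ∈ H, x⁻¹ * a * x ∈ H := fun a ha => by
      have h1 := mul_mem (mul_mem (inv_mem hxx) (hnorm a ha)) hxx
      simpa [mul_assoc] using h1
    have hsplit : ∀ g ∈ X.liftGroup (k + 1), g ∈ H ∨ x * g ∈ H := by
      intro g hg
      induction hg using Subgroup.closure_induction with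
      | mem a ha =>
        obtain ⟨i, hi, rfl⟩ := ha
        rcases Nat.lt_succ_iff_lt_or_eq.1 hi with h | rfl
        · exact Or.inl (Subgroup.subset_closure ⟨i, h, rfl⟩)
        · exact Or.inr hxx
      | one => exact Or.inl (one_mem _)
      | mul a b _ _ ha hb =>
        rcases ha with ha | ha <;> rcases hb with hb | hb
        · exact Or.inl (mul_mem ha hb)
        · refine Or.inr ?_
          rw [show x * (a * b) = x * a * x⁻¹ * (x * b) by group]
          exact mul_mem (hnorm a ha) hb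
        · refine Or.inr ?_
          rw [← mul_assoc]
          exact mul_mem ha hb
        · refine Or.inl ?_
          have h1 := mul_mem (mul_mem (inv_mem hxx) (hnorm _ ha)) hb
          rwa [show (x * x)⁻¹ * (x * (x * a) * x⁻¹) * (x * b) = a * b by group] at h1
      | inv a _ ha =>
        rcases ha with ha | ha
        · exact Or.inl (inv_mem ha)
        · refine Or.inr ?_
          have h1 := mul_mem hxx (hnorm' _ (inv_mem ha))
          rwa [show x * x * (x⁻¹ * (x * a)⁻¹ * x) = x * a⁻¹ by group] at h1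
    let f : X.liftGroup (k + 1) → H ⊕ H := fun g =>
      if h : (g : G) ∈ H then Sum.inl ⟨g, h⟩ else Sum.inr ⟨x * g, (hsplit g g.2).resolve_left h⟩
    have hf : Function.Injective f := fun a b e => by
      simp only [f] at e
      split_ifs at e with h1 h2 h3
      · simp only [Sum.inl.injEq, Subtype.mk.injEq] at e; exact Subtype.ext e
      · simp only [Sum.inr.injEq] at e; exact Subtype.ext (mul_left_cancel (congrArg Subtype.val e))
    calc Nat.card (X.liftGroup (k + 1)) ≤ Nat.card (H ⊕ H) := Nat.card_le_card_of_injective f hf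
      _ ≤ 2 ^ (k + 1) := by rw [Nat.card_sum, pow_succ]; omega

/-- The standard subgroup has a complement in its normaliser. -/
theorem Ctx.exists_compl (hF : X.Fused) :
    ∃ K : Subgroup (normalizer (X.ten : Set G)),
      K.IsComplement' (X.ten.subgroupOf (normalizer (X.ten : Set G))) := by
  set N0 := normalizer (X.ten : Set G)
  have hspec := compl_spec
  simp only [Bool.and_eq_true] at hspec
  have hgen : X.liftGroup 10 ≤ X.loc2 := by
    rw [Ctx.liftGroup, Subgroup.closure_le]
    rintro _ ⟨i, hi, rfl⟩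
    have h' := List.all_eq_true.1 hspec.1.1 i (List.mem_range.2 hi)
    simp only [Bool.and_eq_true, decide_eq_true_eq, beq_iff_eq] at h'
    refine X.elem_mem_loc2 h'.1.1 h'.1.2 ?_
    rw [mem_stabilizer_iff, smul_finset_eq_image, octPts, ← Cert.pts_permF, toList_pcEl hi, h'.2]
  have hV : X.liftGroup 10 ≤ normalizer (V : Set G) := hgen.trans inf_le_left
  let f : X.liftGroup 10 →* Equiv.Perm GolayPt := M24.subtype.comp (X.φ.comp (Subgroup.inclusion hV))
  have hrange : sylT ≤ f.range := by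
    rw [sylT, pcGroup, Subgroup.closure_le]
    rintro _ ⟨i, hi, rfl⟩
    refine ⟨⟨X.lift i, Subgroup.subset_closure ⟨i, hi, rfl⟩⟩, ?_⟩
    show ((X.φ ⟨X.lift i, _⟩ : ↥M24) : Equiv.Perm GolayPt) = _
    rw [show X.φ ⟨X.lift i, hV (Subgroup.subset_closure ⟨i, hi, rfl⟩)⟩ = pcEl i from X.φ_elem _ _, coe_pcEl hi]
  have hTc : Nat.card sylT = 2 ^ 10 := card_pcGroup pc24 _ le_rfl
  have hsurj : 2 ^ 10 ≤ Nat.card f.range := hTc ▸ Subgroup.card_le_of_le hrange
  have hle := X.card_liftGroup 10 le_rfl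
  have h1 := f.ker.card_mul_index
  rw [Subgroup.index_ker] at h1
  have hker : Nat.card f.ker = 1 := by
    have h2 : Nat.card f.ker * 2 ^ 10 ≤ 1 * 2 ^ 10 :=
      (Nat.mul_le_mul_left _ hsurj).trans (h1.le.trans (hle.trans (by norm_num)))
    exact le_antisymm (Nat.le_of_mul_le_mul_right h2 (by norm_num)) Nat.card_pos
  have hc : Nat.card (X.liftGroup 10) = 2 ^ 10 := le_antisymm hle (by rw [← h1, hker, one_mul]; exact hsurj)
  have hinj : Function.Injective f := (MonoidHom.ker_eq_bot_iff f).1 (Subgroup.eq_bot_of_card_eq _ hker)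
  have hdis : X.liftGroup 10 ⊓ X.ten = ⊥ := by
    refine (eq_bot_iff_forall _).2 fun a ha => ?_
    obtain ⟨haL, n, hn, rfl⟩ := mem_inf.1 ha
    obtain ⟨j, hj⟩ : ∃ j, fPart n = j := ⟨_, rfl⟩
    have h' := List.all_eq_true.1 hspec.2 (j : ℕ) (List.mem_range.2 j.2)
    simp only [Bool.and_eq_true, decide_eq_true_eq, beq_iff_eq] at h'
    obtain ⟨⟨hfn, hcode⟩, hw⟩ := h'
    set g := X.ev (fixN.getD (j : ℕ) 0) 10
    have hgL : g ∈ X.liftGroup 10 := X.ev_mem (i := 10) (by norm_num; exact hfn) 10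
    obtain ⟨hlt, σ, hσ, hge⟩ := X.rep_ev (fixN.getD (j : ℕ) 0) 10 le_rfl
    rw [hcode, ← code_fel j] at hσ
    have hσj : σ = fel j := Subtype.ext (code_injective hσ)
    change g = _ at hge
    have he : (⟨X.alpha n, haL⟩ : X.liftGroup 10) = ⟨g, hgL⟩ := hinj (by
      show ((X.φ ⟨X.alpha n, hV haL⟩ : ↥M24) : Equiv.Perm GolayPt) = ((X.φ ⟨g, hV hgL⟩ : ↥M24) : Equiv.Perm GolayPt)
      rw [show X.φ ⟨X.alpha n, hV haL⟩ = fel (fPart n) from X.φ_elem _ _, hj,
        show (⟨g, hV hgL⟩ : normalizer (V : Set G)) = ⟨X.elem _ σ, X.elem_mem _ σ⟩ from Subtype.ext hge, X.φ_elem, hσj])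
    have heq : X.alpha n = X.elem (evP (fixN.getD (j : ℕ) 0) 10).1 σ := (congrArg Subtype.val he).trans hge
    rw [Ctx.alpha] at heq
    obtain ⟨e1, -⟩ := X.elem_inj (wB_lt n) hlt heq
    by_cases hj0 : (j : ℕ) = 0
    · simp only [hj0, beq_self_eq_true, if_true, beq_iff_eq] at hw
      rw [hj0] at e1
      have hj' : j = 0 := Fin.ext hj0
      rw [Ctx.alpha, hj, hj', fel_zero, e1, hw, X.elem_one]
    · rw [if_neg (by simpa using hj0)] at hw
      simp only [Bool.not_eq_true', decide_eq_false_iff_not] at hw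
      exact absurd (e1 ▸ comb_wB_mem n) hw
  have hLN : X.liftGroup 10 ≤ N0 := hgen.trans inf_le_right
  haveI : (X.ten.subgroupOf N0).Normal := Subgroup.normal_in_normalizer
  set U := (X.liftGroup 10).subgroupOf N0 ⊔ X.ten.subgroupOf N0
  have hd' : (X.liftGroup 10).subgroupOf N0 ⊓ X.ten.subgroupOf N0 = ⊥ := by
    refine (eq_bot_iff_forall _).2 fun m hm => Subtype.ext ?_
    exact mem_bot.1 (hdis ▸ ⟨hm.1, hm.2⟩ : (m : G) ∈ (⊥ : Subgroup G))
  have hodd : Odd U.index := by
    have hU : Nat.card U = 2 ^ 20 := by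
      have h := CfsgLib.Solvable.card_sup_mul_card_inf
        (show (X.liftGroup 10).subgroupOf N0 ≤ normalizer (X.ten.subgroupOf N0 : Set N0) by
          rw [Subgroup.normalizer_eq_top_iff.2 inferInstance]; exact le_top)
      rw [hd', Subgroup.card_bot, mul_one, Nat.card_congr (subgroupOfEquivOfLe hLN).toEquiv,
        Nat.card_congr (subgroupOfEquivOfLe (le_normalizer (H := X.ten))).toEquiv, hc, X.card_ten] at h
      rw [h]; norm_num
    have h := U.card_mul_index
    rw [hU, hF.cardN, show 31 * (2 ^ 10 * 322560) = 2 ^ 20 * 9765 by norm_num] at h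
    rw [Nat.eq_of_mul_eq_mul_left (by norm_num) h]
    exact ⟨4882, by norm_num⟩
  exact J4Eleven.exists_complement _ U ((X.liftGroup 10).subgroupOf N0)
    (fun a ha => Subtype.ext (X.ten_sq ha)) le_sup_right hd' rfl hodd

end CfsgLib.J4Ten
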