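import Cfsg.Agent.J4Ten.Linear
import Cfsg.Agent.J4Ten.Compl
import Cfsg.Agent.J4Local.Eleven.Main

/-!
The self-centralising elementary subgroups of order `2 ^ 10` in a group of Janko-four type.
-/

set_option autoImplicit false
set_option maxRecDepth 100000
set_option linter.style.haveILetI false
set_option linter.unusedSectionVars false

namespace CfsgLib.J4Ten

open Cfsg CfsgLib.J4Eleven CfsgLib.J4Local CfsgLib.J4Local.M22Elem Subgroup

attribute [local instance] Classical.propDecidable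

variable {G : Type*} [Group G] [Finite G]

section Std

variable {z : G} {V : Subgroup G} (X : Ctx z V) (hF : X.Fused)

include hF

/-- A complement isomorphic to the special linear group. -/
theorem Ctx.split : ∃ B : Subgroup G, B ≤ normalizer (X.ten : Set G) ∧ B ⊓ X.ten = ⊥ ∧
    B ⊔ X.ten = normalizer (X.ten : Set G) ∧
    Nonempty (↥B ≃* Matrix.SpecialLinearGroup (Fin 5) (ZMod 2)) := by
  set N0 := normalizer (X.ten : Set G) with hN0
  obtain ⟨K, hK⟩ : ∃ K : Subgroup N0, K.IsComplement' (X.ten.subgroupOf N0) := X.exists_compl hF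
  refine ⟨K.map N0.subtype, map_subtype_le K, ?_, ?_,
    ⟨(equivMapOfInjective K _ N0.subtype_injective).symm.trans (MulEquiv.ofBijective _ (X.theta_bijective hF hK))⟩⟩
  · refine (eq_bot_iff_forall _).2 ?_
    rintro _ ⟨⟨m, hm, rfl⟩, hA⟩
    exact congrArg Subtype.val (disjoint_def.1 hK.disjoint hm (show m ∈ X.ten.subgroupOf N0 from hA))
  · have h := congrArg (Subgroup.map N0.subtype) hK.sup_eq_top
    rwa [Subgroup.map_sup, map_subgroupOf_eq_of_le le_normalizer, ← MonoidHom.range_eq_map,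
      Subgroup.range_subtype] at h

/-- No proper non-trivial invariant subgroup. -/
theorem Ctx.irreducible {W : Subgroup G} (hW : W ≤ X.ten)
    (hN : normalizer (X.ten : Set G) ≤ normalizer (W : Set G)) : W = ⊥ ∨ W = X.ten := by
  by_cases hbot : W = ⊥
  · exact Or.inl hbot
  right
  let S : Finset ℕ := (Finset.range 1024).filter fun n => X.alpha n ∈ W
  have hS : ∀ n, n ∈ S ↔ n < 1024 ∧ X.alpha n ∈ W := fun n => by simp [S]
  have hcard : Nat.card W = S.card := by
    let f : S → W := fun n => ⟨X.alpha n, ((hS _).1 n.2).2⟩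
    have hf : Function.Bijective f := by
      refine ⟨fun a b e => Subtype.ext (X.alpha_inj ((hS _).1 a.2).1 ((hS _).1 b.2).1 (congrArg Subtype.val e)),
        fun w => ?_⟩
      obtain ⟨n, hn, e⟩ := hW w.2
      exact ⟨⟨n, (hS n).2 ⟨hn, e.symm ▸ w.2⟩⟩, Subtype.ext e⟩
    rw [← Nat.card_eq_of_bijective f hf, Nat.card_eq_fintype_card, Fintype.card_coe]
  have hdvd : Nat.card W ∣ 2 ^ 10 := X.card_ten ▸ Subgroup.card_dvd_of_le hW
  obtain ⟨k, hk, hk2⟩ := (Nat.dvd_prime_pow Nat.prime_two).1 hdvd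
  have closed : ∀ a b : ℕ, a < 1024 → b < 1024 → a ∈ S →
      (∃ g ∈ normalizer (X.ten : Set G), g * X.alpha a * g⁻¹ = X.alpha b) → b ∈ S := by
    rintro a b - hb ha ⟨g, hg, e⟩
    exact (hS b).2 ⟨hb, e ▸ (mem_normalizer_iff.1 (hN hg) _).1 ((hS a).1 ha).2⟩
  have htot : ∀ n < 1024, n ≠ 0 → inT n = true ∨ inS n = true := by
    intro n hn h0
    simp only [inT, inS, Bool.or_eq_true]
    rcases orbit_parts.2.2.1 n hn h0 with h | h | ⟨-, h | h⟩ <;> tauto
  have cT : ((Finset.range 1024).filter fun n => inT n = true).card = 868 := by decide +kernel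
  have cS : ((Finset.range 1024).filter fun n => inS n = true).card = 155 := by decide +kernel
  have h0S : 0 ∈ S := (hS 0).2 ⟨by norm_num, by rw [X.alpha_zero]; exact one_mem _⟩
  have z0 : inT 0 = false ∧ inS 0 = false := by decide +kernel
  by_cases hT : ∃ a ∈ S, inT a = true
  · obtain ⟨a, ha, haT⟩ := hT
    have hsub : insert 0 ((Finset.range 1024).filter fun n => inT n = true) ⊆ S := by
      intro n hn
      rcases Finset.mem_insert.1 hn with rfl | hn
      · exact h0S
      obtain ⟨h1, h2⟩ := Finset.mem_filter.1 hn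
      rw [Finset.mem_range] at h1
      exact closed a n ((hS a).1 ha).1 h1 ha (hF.move_T a ((hS a).1 ha).1 n h1 haT h2)
    have h := Finset.card_le_card hsub
    rw [Finset.card_insert_of_notMem (by simp [z0.1]), cT, ← hcard, hk2] at h
    refine Subgroup.eq_of_le_of_card_ge hW ?_
    rw [X.card_ten, hk2]
    refine Nat.pow_le_pow_right (by norm_num) ?_
    by_contra hlt
    have h9 : 2 ^ k ≤ 2 ^ 9 := Nat.pow_le_pow_right (by norm_num) (by omega)
    norm_num at h9
    omega
  · exfalso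
    push Not at hT
    obtain ⟨w, hw, hw1⟩ := (Subgroup.bot_or_exists_ne_one W).resolve_left hbot
    obtain ⟨a, ha, rfl⟩ := hW hw
    have ha0 : a ≠ 0 := fun e => hw1 (by rw [e, X.alpha_zero])
    have haS : a ∈ S := (hS a).2 ⟨ha, hw⟩
    have hSa : inS a = true := (htot a ha ha0).resolve_left (hT a haS)
    have heq : S = insert 0 ((Finset.range 1024).filter fun n => inS n = true) := by
      ext n
      have e : n ∈ insert 0 ((Finset.range 1024).filter fun n => inS n = true) ↔
          n = 0 ∨ (n < 1024 ∧ inS n = true) := by simp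
      rw [e]
      constructor
      · intro hn
        obtain ⟨hn', -⟩ := (hS n).1 hn
        by_cases h0 : n = 0
        · exact Or.inl h0
        · exact Or.inr ⟨hn', (htot n hn' h0).resolve_left (hT n hn)⟩
      · rintro (rfl | ⟨h1, h2⟩)
        · exact h0S
        · exact closed a n ha h1 haS (hF.move_S a ha n h1 hSa h2)
    rw [heq, Finset.card_insert_of_notMem (by simp [z0.2]), cS] at hcard
    rw [hcard] at hk2
    interval_cases k <;> norm_num at hk2

/-- The two orbits. -/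
theorem Ctx.orbits : ∃ a b : G, a ∈ X.ten ∧ b ∈ X.ten ∧
    {v : G | ∃ n ∈ normalizer (X.ten : Set G), n * a * n⁻¹ = v}.ncard = 155 ∧
    {v : G | ∃ n ∈ normalizer (X.ten : Set G), n * b * n⁻¹ = v}.ncard = 868 := by
  have cT : ((Finset.range 1024).filter fun n => inT n = true).card = 868 := by decide +kernel
  have cS : ((Finset.range 1024).filter fun n => inS n = true).card = 155 := by decide +kernel
  have hs : startB < 1024 ∧ startA < 1024 ∧ inS startB = true ∧ inT startA = true := by decide +kernel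
  have key : ∀ (p : ℕ → Bool) (s : ℕ), s < 1024 → p s = true →
      (∀ g ∈ normalizer (X.ten : Set G), ∀ a < 1024, ∀ b < 1024, g * X.alpha a * g⁻¹ = X.alpha b → p a = p b) →
      (∀ a < 1024, ∀ b < 1024, p a = true → p b = true →
        ∃ g ∈ normalizer (X.ten : Set G), g * X.alpha a * g⁻¹ = X.alpha b) →
      {v : G | ∃ n ∈ normalizer (X.ten : Set G), n * X.alpha s * n⁻¹ = v}.ncard =
        ((Finset.range 1024).filter fun n => p n = true).card := by
    intro p s hs hp hinv hmove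
    rw [← Set.ncard_coe_finset, ← Set.InjOn.ncard_image (f := X.alpha)
      (s := (((Finset.range 1024).filter fun n => p n = true : Finset ℕ) : Set ℕ))
      (fun a ha b hb e => X.alpha_inj (Finset.mem_range.1 (Finset.mem_filter.1 ha).1)
        (Finset.mem_range.1 (Finset.mem_filter.1 hb).1) e)]
    congr 1
    ext v
    constructor
    · rintro ⟨g, hg, rfl⟩
      obtain ⟨n, hn, e⟩ := (mem_normalizer_iff.1 hg _).1 ⟨s, hs, rfl⟩
      exact ⟨n, Finset.mem_filter.2 ⟨Finset.mem_range.2 hn, (hinv g hg s hs n hn e.symm).symm.trans hp⟩, e⟩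
    · rintro ⟨n, hn, rfl⟩
      obtain ⟨h1, h2⟩ := Finset.mem_filter.1 hn
      exact hmove s hs n (Finset.mem_range.1 h1) hp h2
  refine ⟨X.alpha startB, X.alpha startA, ⟨_, hs.1, rfl⟩, ⟨_, hs.2.1, rfl⟩, ?_, ?_⟩
  · rw [key inS startB hs.1 hs.2.2.1 (fun g hg a ha b hb e => (hF.map_T g hg a ha b hb e).2) hF.move_S, cS]
  · rw [key inT startA hs.2.1 hs.2.2.2 (fun g hg a ha b hb e => (hF.map_T g hg a ha b hb e).1) hF.move_T, cT]

end Std

variable {z : G} {P : Subgroup G} (hJ : Cfsg.IsOfJankoFourTypeWith z P)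

include hJ

theorem mem_zpowers_A_E {x : G} (hxA : x ∈ cA z P) (hxE : x ∈ cE z) : x ∈ Subgroup.zpowers z := by
  refine E_inf_centralizer hJ ▸ Subgroup.mem_inf.2 ⟨hxE, Subgroup.mem_centralizer_iff.2 fun q hq => ?_⟩
  have h1 : x * q * x⁻¹ * q⁻¹ ∈ P :=
    mul_mem ((Subgroup.mem_normalizer_iff.1 hxA.2 q).1 hq) (inv_mem hq)
  have h2 : x * q * x⁻¹ * q⁻¹ ∈ cE z := by
    have := (Subgroup.mem_normalizer_iff.1 (H_le_normalizer_E (P_le_H hJ hq)) x⁻¹).1 (inv_mem hxE)
    simpa [mul_assoc] using mul_mem hxE this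
  have hd : P ⊓ cE z = ⊥ := Subgroup.inf_eq_bot_of_coprime (by rw [card_P hJ, card_E hJ]; decide)
  exact (mul_inv_eq_iff_eq_mul.1 (mul_inv_eq_one.1
    (Subgroup.mem_bot.1 (hd ▸ Subgroup.mem_inf.2 ⟨h1, h2⟩)))).symm

/-- Everything for one self-centralising subgroup, which is conjugate to all the others. -/
theorem exists_std [IsSimpleGroup G] (hG : ¬ IsMulCommutative G)
    (hsplit : ∃ K : Subgroup G, K ≤ normalizer (vZero hJ subA : Set G) ∧ K ⊓ vZero hJ subA = ⊥ ∧
      K ⊔ vZero hJ subA = normalizer (vZero hJ subA : Set G)) :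
    ∃ (X : Ctx z (vZero hJ subA)), X.Fused ∧ ∀ A : Subgroup G, Cfsg.IsElementaryAbelian 2 A →
      Nat.card A = 2 ^ 10 → centralizer (A : Set G) = A → ∃ g : G, X.ten.map (MulAut.conj g).toMonoidHom = A := by
  obtain ⟨C, hloc⟩ := conf_std hJ hG
  obtain ⟨K, hK, hdis, hsup⟩ := hsplit
  obtain ⟨X⟩ := exists_ctx C hloc hK hdis hsup
  have hEN : cE z ≤ normalizer (vZero hJ subA : Set G) := E_le_normalizer_vZero hJ hexad
  have hcV : Nat.card ↥(cE z ⊓ vZero hJ subA) = 128 := by
    rw [inf_comm, vZero_inf_E hJ hexad.first, card_fixA hJ hexad.first]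
  have hH : 2 ^ 21 * 10395 ≤ Nat.card ↥(cH z) := by
    have h := CfsgLib.Solvable.card_sup_mul_card_inf
      (inf_le_left.trans H_le_normalizer_E : cA z P ≤ Subgroup.normalizer (cE z : Set G))
    rw [← H_eq hJ, card_A hJ, card_E hJ] at h
    have h2 : Nat.card ↥(cA z P ⊓ cE z) ≤ 2 := by
      rw [← card_zpowers_z hJ]
      exact Subgroup.card_le_of_le fun x hx => mem_zpowers_A_E hJ hx.1 hx.2
    have h3 := Nat.mul_le_mul_left (Nat.card ↥(cH z)) h2
    rw [h] at h3
    norm_num at h3 ⊢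
    omega
  have hex := X.exists_TT_outside hEN H_le_normalizer_E
    (fun e he => by
      rcases (gen_E hJ).square e he with h | h
      · rw [h]; exact one_mem _
      · rw [h]; exact z_mem_vZero hJ hexad.first)
    (card_E hJ) hcV
    (fun v hv e he => by
      rw [show e * v * e⁻¹ * v = e * (v * e⁻¹ * v) by group]
      refine mul_mem he ?_
      have hi : v⁻¹ = v := inv_eq_of_mul_eq_one_right (C.sq v hv)
      nth_rewrite 2 [← hi]
      exact (mem_normalizer_iff.1 (H_le_normalizer_E (vZero_le_H hJ hexad.first hv)) _).1 (inv_mem he))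
    hH
  refine ⟨X, X.fused hex, fun A hA hc hself => ?_⟩
  haveI : Fact (Nat.Prime 2) := ⟨Nat.prime_two⟩
  obtain ⟨S, hS⟩ := (isPGroup_of_sq A fun v hv => by rw [← pow_two]; exact hA.2 v hv).exists_le_sylow
  obtain ⟨V', ⟨hV'S, hV'e, hV'c⟩, huniq⟩ := existsUnique_eleven hJ S
  obtain ⟨g, hg⟩ := exists_conj_std hJ hV'e hV'c
  have hSN : (S : Subgroup G) ≤ normalizer (V' : Set G) := fun s hs => by
    refine map_conj_mem (huniq _ ⟨?_, isElementaryAbelian_map hJ _ hV'e, ?_⟩)
    · rintro _ ⟨v, hv, rfl⟩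
      exact mul_mem (mul_mem hs (hV'S hv)) (inv_mem hs)
    · rw [card_map_of_injective (MulEquiv.injective _), hV'c]
  set A1 := A.map (MulAut.conj g).toMonoidHom
  have hA1 : A1 ≤ normalizer (vZero hJ subA : Set G) := by
    rw [← hg, ← Subgroup.map_equiv_normalizer_eq]
    exact Subgroup.map_mono (hS.trans hSN)
  have hsq : ∀ a ∈ A1, a * a = 1 := by
    rintro _ ⟨a, ha, rfl⟩
    rw [← map_mul, ← pow_two, hA.2 a ha, map_one]
  obtain ⟨m, -, hm⟩ := X.classify hA1 hsq (by rw [card_map_of_injective (MulEquiv.injective _), hc]) (by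
    intro x hx
    refine ⟨g⁻¹ * x * g, ?_, by simp [mul_assoc]⟩
    show g⁻¹ * x * g ∈ A
    rw [← hself, mem_centralizer_iff]
    intro a ha
    have := mem_centralizer_iff.1 hx (g * a * g⁻¹) ⟨a, ha, rfl⟩
    calc a * (g⁻¹ * x * g) = g⁻¹ * (g * a * g⁻¹ * x) * g := by group
      _ = g⁻¹ * x * g * a := by rw [this]; group)
  refine ⟨g⁻¹ * m, ?_⟩
  rw [show (MulAut.conj (g⁻¹ * m)).toMonoidHom = (MulAut.conj g⁻¹).toMonoidHom.comp (MulAut.conj m).toMonoidHom from
      MonoidHom.ext fun x => by simp [mul_assoc],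
    ← Subgroup.map_map, hm, Subgroup.map_map]
  conv_rhs => rw [← Subgroup.map_id A]
  congr 1
  exact MonoidHom.ext fun x => by simp [mul_assoc]

omit hJ in
theorem map_normalizer {A B : Subgroup G} {g : G} (h : A.map (MulAut.conj g).toMonoidHom = B) :
    (normalizer (A : Set G)).map (MulAut.conj g).toMonoidHom = normalizer (B : Set G) := by
  rw [← h, Subgroup.map_equiv_normalizer_eq]

/-- The subgroups of order `2 ^ 10`: existence, conjugacy, split normaliser and irreducibility. -/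
theorem ten_main [IsSimpleGroup G] (hG : ¬ IsMulCommutative G)
    (hsplit : ∃ K : Subgroup G, K ≤ normalizer (vZero hJ subA : Set G) ∧ K ⊓ vZero hJ subA = ⊥ ∧
      K ⊔ vZero hJ subA = normalizer (vZero hJ subA : Set G)) :
    (∃ A : Subgroup G, Cfsg.IsElementaryAbelian 2 A ∧ Nat.card ↥A = 2 ^ 10 ∧ centralizer (A : Set G) = A) ∧
    (∀ A A' : Subgroup G, Cfsg.IsElementaryAbelian 2 A → Nat.card ↥A = 2 ^ 10 → centralizer (A : Set G) = A →
      Cfsg.IsElementaryAbelian 2 A' → Nat.card ↥A' = 2 ^ 10 → centralizer (A' : Set G) = A' →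
        ∃ g : G, A' = A.map (MulAut.conj g).toMonoidHom) ∧
    ∀ A : Subgroup G, Cfsg.IsElementaryAbelian 2 A → Nat.card ↥A = 2 ^ 10 → centralizer (A : Set G) = A →
      (∃ B : Subgroup G, B ≤ normalizer (A : Set G) ∧ B ⊓ A = ⊥ ∧ B ⊔ A = normalizer (A : Set G) ∧
        Nonempty (↥B ≃* Matrix.SpecialLinearGroup (Fin 5) (ZMod 2))) ∧
      (∀ W : Subgroup G, W ≤ A → normalizer (A : Set G) ≤ normalizer (W : Set G) → W = ⊥ ∨ W = A) ∧
      ∃ a b : G, a ∈ A ∧ b ∈ A ∧ {v : G | ∃ n ∈ normalizer (A : Set G), n * a * n⁻¹ = v}.ncard = 155 ∧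
        {v : G | ∃ n ∈ normalizer (A : Set G), n * b * n⁻¹ = v}.ncard = 868 := by
  obtain ⟨X, hF, hall⟩ := exists_std hJ hG hsplit
  refine ⟨⟨X.ten, ⟨⟨⟨fun a b => Subtype.ext (X.ten_comm a.2 b.2)⟩⟩,
    fun a ha => by rw [pow_two]; exact X.ten_sq ha⟩, X.card_ten, X.centralizer_ten⟩, ?_, ?_⟩
  · intro A A' h1 h2 h3 h4 h5 h6
    obtain ⟨g, rfl⟩ := hall A h1 h2 h3
    obtain ⟨g', rfl⟩ := hall A' h4 h5 h6
    refine ⟨g' * g⁻¹, ?_⟩
    rw [Subgroup.map_map]
    congr 1
    exact MonoidHom.ext fun x => by simp [mul_assoc]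
  · intro A h1 h2 h3
    obtain ⟨g, hg⟩ := hall A h1 h2 h3
    have hn := map_normalizer hg
    set c := (MulAut.conj g).toMonoidHom
    have hci : Function.Injective c := (MulAut.conj g).injective
    refine ⟨?_, ?_, ?_⟩
    · obtain ⟨B, hB1, hB2, hB3, ⟨e⟩⟩ := X.split hF
      exact ⟨B.map c, hn ▸ Subgroup.map_mono hB1, by rw [← hg, ← Subgroup.map_inf _ _ _ hci, hB2, Subgroup.map_bot],
        by rw [← hn, ← hg, ← Subgroup.map_sup, hB3], ⟨(equivMapOfInjective B _ hci).symm.trans e⟩⟩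
    · intro W hW hWN
      have hback : ∀ K : Subgroup G, (K.map (MulAut.conj g).symm.toMonoidHom).map c = K := fun K => by
        rw [Subgroup.map_map]
        conv_rhs => rw [← Subgroup.map_id K]
        congr 1
        exact MonoidHom.ext fun x => (MulAut.conj g).apply_symm_apply x
      set W0 := W.map (MulAut.conj g).symm.toMonoidHom
      have hle : W0 ≤ X.ten := by
        rw [← Subgroup.map_le_map_iff_of_injective hci, hback, hg]; exact hW
      have hN0 : normalizer (X.ten : Set G) ≤ normalizer (W0 : Set G) := by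
        rw [← Subgroup.map_le_map_iff_of_injective hci, hn, map_normalizer (g := g) (B := W) (hback W)]
        exact hWN
      rcases X.irreducible hF hle hN0 with h | h
      · left; rw [← hback W]; show W0.map c = ⊥; rw [h, Subgroup.map_bot]
      · right; rw [← hback W]; show W0.map c = A; rw [h, hg]
    · obtain ⟨a, b, ha, hb, e1, e2⟩ := X.orbits hF
      have hback : ∀ x, g⁻¹ * (g * x * g⁻¹) * g = x := fun x => by group
      refine ⟨g * a * g⁻¹, g * b * g⁻¹, hg ▸ ⟨a, ha, rfl⟩, hg ▸ ⟨b, hb, rfl⟩, ?_, ?_⟩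
      · rw [← ncard_orbit_conj hg, hback]; exact e1
      · rw [← ncard_orbit_conj hg, hback]; exact e2

end CfsgLib.J4Ten
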