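import Cfsg.Agent.J4Ten.Syn
import Cfsg.Agent.J4Local.Eleven.CentT
import Cfsg.Agent.Golay.M24Basics

/-!
The subgroup `V` as the space of syndromes, and its normaliser as pairs.
-/

set_option autoImplicit false
set_option maxRecDepth 100000
set_option linter.style.haveILetI false
set_option linter.unusedSectionVars false

namespace CfsgLib.J4Ten

open Cfsg CfsgLib.Golay CfsgLib.J4Eleven Subgroup
open scoped Pointwise

attribute [local instance] Classical.propDecidable

variable {G : Type*} [Group G] [Finite G]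

/-- The labelled subgroup with a section over the Mathieu group. -/
structure Ctx (z : G) (V : Subgroup G) where
  φ : ↥(normalizer (V : Set G)) →* M24
  d : GolayPt → GolayPt → G
  C : Conf z V
  L : Labels z V φ d
  loc : Local z V
  κ : ↥M24 →* G
  κN : ∀ σ, κ σ ∈ normalizer (V : Set G)
  κφ : ∀ σ, φ ⟨κ σ, κN σ⟩ = σ

variable {z : G} {V : Subgroup G}

theorem exists_ctx (C : Conf z V) (hloc : Local z V) {K : Subgroup G}
    (hK : K ≤ normalizer (V : Set G)) (hdis : K ⊓ V = ⊥) (hsup : K ⊔ V = normalizer (V : Set G)) :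
    Nonempty (Ctx z V) := by
  obtain ⟨φ, d, L⟩ := C.exists_labels
  let f : K →* M24 := φ.comp (Subgroup.inclusion hK)
  have hinj : Function.Injective f := by
    rw [injective_iff_map_eq_one]
    intro k hk
    have h : (k : G) ∈ V := (L.ker _).1 hk
    have : (k : G) ∈ (⊥ : Subgroup G) := hdis ▸ mem_inf.2 ⟨k.2, h⟩
    exact Subtype.ext (mem_bot.1 this)
  have hsur : Function.Surjective f := by
    intro σ
    obtain ⟨m, rfl⟩ := L.surj σ
    obtain ⟨k, hk, v, hv, e⟩ := Subgroup.mem_sup_of_normal_right (s := K.subgroupOf (normalizer (V : Set G)))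
      (t := φ.ker) (x := m) |>.1 (by
      have h1 : m.1 ∈ K ⊔ V := by rw [hsup]; exact m.2
      have h2 : m ∈ (K ⊔ V).subgroupOf (normalizer (V : Set G)) := h1
      rw [subgroupOf_sup hK le_normalizer] at h2
      have hker : V.subgroupOf (normalizer (V : Set G)) ≤ φ.ker :=
        fun x hx => MonoidHom.mem_ker.2 ((L.ker x).2 hx)
      exact (sup_le_sup_left hker _ : _ ≤ K.subgroupOf (normalizer (V : Set G)) ⊔ φ.ker) h2)
    refine ⟨⟨k.1, hk⟩, ?_⟩
    show φ ⟨k.1, _⟩ = φ m
    rw [← e, map_mul, MonoidHom.mem_ker.1 hv, mul_one]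
  exact ⟨{ φ := φ, d := d, C := C, L := L, loc := hloc
           κ := K.subtype.comp (MulEquiv.ofBijective f ⟨hinj, hsur⟩).symm.toMonoidHom
           κN := fun σ => hK ((MulEquiv.ofBijective f ⟨hinj, hsur⟩).symm σ).2
           κφ := fun σ => (MulEquiv.ofBijective f ⟨hinj, hsur⟩).apply_symm_apply σ }⟩

variable (X : Ctx z V)

/-- A duad as an element of `V`. -/
def Ctx.dV (p q : GolayPt) : V := ⟨X.d p q, X.L.memV X.C p q⟩

/-- The element of a syndrome, as a product of basis duads. -/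
noncomputable def Ctx.valV (m : ℕ) : V :=
  haveI : IsMulCommutative V := ⟨⟨fun a b => Subtype.ext (X.C.comm a.2 b.2)⟩⟩
  ((List.range 24).map fun i => if m.testBit i then X.dV (pt i) (pt 23) else 1).prod

/-- The element with a given syndrome. -/
noncomputable def Ctx.nu (s : ℕ) : G := (X.valV (s <<< 12) : G)

theorem Ctx.nu_mem (s : ℕ) : X.nu s ∈ V := (X.valV _).2

theorem Ctx.valV_xor (a b : ℕ) : X.valV (a ^^^ b) = X.valV a * X.valV b := by
  letI : CommGroup V :=
    { (inferInstance : Group V) with mul_comm := fun a b => Subtype.ext (X.C.comm a.2 b.2) }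
  unfold Ctx.valV
  rw [← List.prod_map_mul]
  refine congrArg List.prod (List.map_congr_left fun i _ => ?_)
  have h : X.dV (pt i) (pt 23) * X.dV (pt i) (pt 23) = 1 := Subtype.ext (X.C.sq _ (X.L.memV X.C _ _))
  rw [Nat.testBit_xor]
  cases a.testBit i <;> cases b.testBit i <;> simp [h]

theorem Ctx.valV_zero : X.valV 0 = 1 := by simp [Ctx.valV]

theorem Ctx.valV_single {j : ℕ} (hj : j < 24) : X.valV (2 ^ j) = X.dV (pt j) (pt 23) := by
  letI : CommGroup V :=
    { (inferInstance : Group V) with mul_comm := fun a b => Subtype.ext (X.C.comm a.2 b.2) }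
  unfold Ctx.valV
  refine (List.prod_map_eq_pow_single (l := List.range 24) j _ ?_).trans ?_
  · intro i hi _
    simp [Nat.testBit_two_pow, Ne.symm hi]
  · rw [List.count_eq_one_of_mem List.nodup_range (List.mem_range.2 hj), pow_one]
    simp

theorem Ctx.nu_xor (a b : ℕ) : X.nu (a ^^^ b) = X.nu a * X.nu b := by
  simp only [Ctx.nu, Nat.shiftLeft_xor_distrib, X.valV_xor, Subgroup.coe_mul]

theorem Ctx.nu_zero : X.nu 0 = 1 := by simp [Ctx.nu, X.valV_zero]

theorem Ctx.nu_sq (a : ℕ) : X.nu a * X.nu a = 1 := X.C.sq _ (X.nu_mem a)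

theorem Ctx.valV_eq (m : ℕ) :
    letI : CommGroup V :=
      { (inferInstance : Group V) with mul_comm := fun a b => Subtype.ext (X.C.comm a.2 b.2) }
    X.valV m = ∏ p ∈ pts m, X.dV p (pt 23) := by
  letI : CommGroup V :=
    { (inferInstance : Group V) with mul_comm := fun a b => Subtype.ext (X.C.comm a.2 b.2) }
  unfold Ctx.valV pts
  rw [Finset.prod_filter, ← List.prod_toFinset _ List.nodup_range]
  refine Finset.prod_bij' (fun i _ => pt i) (fun p _ => idx p) (fun i _ => Finset.mem_univ _)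
    (fun p _ => List.mem_toFinset.2 (List.mem_range.2 (idx_lt p)))
    (fun i hi => idx_pt i (List.mem_range.1 (List.mem_toFinset.1 hi))) (fun p _ => pt_idx p) ?_
  intro i hi
  rw [idx_pt i (List.mem_range.1 (List.mem_toFinset.1 hi))]

/-- The product over an octad is trivial. -/
theorem Ctx.valV_octad {m : ℕ} (hm : pts m ∈ octads) : X.valV m = 1 := by
  letI : CommGroup V :=
    { (inferInstance : Group V) with mul_comm := fun a b => Subtype.ext (X.C.comm a.2 b.2) }
  let val : Finset GolayPt → G := fun s => ((∏ p ∈ s, X.dV p (pt 23) : V) : G)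
  have hval : val (pts m) = (X.valV m : G) := congrArg Subtype.val (X.valV_eq m).symm
  by_contra hne
  have hne' : val (pts m) ≠ 1 := fun e => hne (Subtype.ext (hval.symm.trans e))
  have hmove : ∀ (k : normalizer (V : Set G)) (s : Finset GolayPt), s.card = 8 →
      (k : G) * val s * (k : G)⁻¹ = val (X.φ k • s) := by
    intro k s hs
    let f : V →* V :=
      { toFun := fun v => ⟨(k : G) * v * (k : G)⁻¹, (mem_normalizer_iff.1 k.2 v).1 v.2⟩
        map_one' := Subtype.ext (by simp)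
        map_mul' := fun u v => Subtype.ext (by
          show (k : G) * ((u : G) * v) * (k : G)⁻¹ = _
          exact (J4Eleven.conj_mul (k : G) _ _).symm) }
    have hf : ∀ p, f (X.dV p (pt 23)) =
        X.dV ((X.φ k : Equiv.Perm GolayPt) p) (pt 23) * X.dV (pt 23) ((X.φ k : Equiv.Perm GolayPt) (pt 23)) :=
      fun p => Subtype.ext (by
        show (k : G) * X.d p (pt 23) * (k : G)⁻¹ = X.d _ _ * X.d _ _
        rw [← X.L.equiv, X.L.tri])
    have h8 : (X.dV (pt 23) ((X.φ k : Equiv.Perm GolayPt) (pt 23))) ^ 8 = 1 := by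
      rw [show (8 : ℕ) = 2 * 4 from rfl, pow_mul, pow_two,
        show X.dV (pt 23) ((X.φ k : Equiv.Perm GolayPt) (pt 23)) * X.dV (pt 23) _ = 1 from
          Subtype.ext (X.C.sq _ (X.L.memV X.C _ _)), one_pow]
    show ((f (∏ p ∈ s, X.dV p (pt 23)) : V) : G) = _
    refine congrArg Subtype.val ?_
    rw [map_prod, Finset.prod_congr rfl (fun p _ => hf p), Finset.prod_mul_distrib, Finset.prod_const, hs, h8,
      mul_one, smul_finset_eq_image, Finset.prod_image (Equiv.injective _).injOn]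
  set N := normalizer (V : Set G)
  letI aO : MulAction N (Finset GolayPt) := MulAction.compHom _ X.φ
  letI aG : MulAction N G := MulAction.compHom G (MulAut.conj.comp N.subtype)
  have hle : MulAction.stabilizer N (pts m) ≤ MulAction.stabilizer N (val (pts m)) := by
    intro k hk
    show (k : G) * val (pts m) * (k : G)⁻¹ = val (pts m)
    rw [hmove k _ (octad_card hm), show X.φ k • pts m = pts m from hk]
  have horb : MulAction.orbit N (pts m) = octads := by
    ext s
    constructor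
    · rintro ⟨k, rfl⟩
      show X.φ k • pts m ∈ octads
      rw [smul_finset_eq_image]
      exact M24_octad (X.φ k).2 hm
    · intro hs
      obtain ⟨g, hg⟩ := octad_transitive hm hs
      obtain ⟨k, rfl⟩ := X.L.surj g
      exact ⟨k, hg⟩
  have hdvd := Subgroup.index_dvd_of_le hle
  rw [MulAction.index_stabilizer, MulAction.index_stabilizer, horb, octad_count] at hdvd
  have hvV : val (pts m) ∈ V := (∏ p ∈ pts m, X.dV p (pt 23) : V).2
  by_cases hz : IsConj z (val (pts m))
  · have e : MulAction.orbit N (val (pts m)) = ↑((elems V).filter fun c => IsConj z c) := by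
      ext c
      rw [Finset.mem_coe, Finset.mem_filter, mem_elems]
      constructor
      · rintro ⟨k, rfl⟩
        exact ⟨(mem_normalizer_iff.1 k.2 _).1 hvV, (conj_z_conj (k : G) _).2 hz⟩
      · rintro ⟨hc, hc'⟩
        obtain ⟨g, hg, e1⟩ := X.C.z_move hvV hz
        obtain ⟨g', hg', e2⟩ := X.C.z_move hc hc'
        refine ⟨⟨g' * g⁻¹, mul_mem hg' (inv_mem hg)⟩, ?_⟩
        show g' * g⁻¹ * val (pts m) * (g' * g⁻¹)⁻¹ = c
        rw [← e1, ← e2]
        group
    rw [e, Set.ncard_coe_finset, X.C.count] at hdvd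
    norm_num at hdvd
  · have hS : val (pts m) ∈ nS z V := mem_nS.2 ⟨hvV, hne', hz⟩
    have e : MulAction.orbit N (val (pts m)) = ↑(nS z V) := by
      ext c
      constructor
      · rintro ⟨k, rfl⟩
        exact (X.C.nS_map k.2).2 hS
      · intro hc
        obtain ⟨g, hg, e⟩ := X.C.nS_move hS hc
        exact ⟨⟨g, hg⟩, e⟩
    rw [e, Set.ncard_coe_finset, X.C.card_nS] at hdvd
    norm_num at hdvd

theorem rows_octad : ∀ r ∈ rows, wt 24 r = 8 ∧ word (r % 4096) = r := by decide +kernel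

theorem Ctx.valV_word (c : ℕ) : X.valV (word c) = 1 := by
  have h : ∀ (l : List ℕ), (∀ r ∈ l, r ∈ rows) → ∀ c, X.valV (comb l c) = 1 := by
    intro l
    induction l with
    | nil => intro _ c; simp [comb, X.valV_zero]
    | cons a t ih =>
      intro h c
      rw [comb, X.valV_xor, ih (fun r hr => h r (List.mem_cons_of_mem _ hr)), mul_one]
      split
      · obtain ⟨h1, h2⟩ := rows_octad a (h a List.mem_cons_self)
        exact X.valV_octad ((mem_octads_iff _).2 ⟨a % 4096, Nat.mod_lt _ (by norm_num), (congrArg (wt 24) h2).trans h1, congrArg pts h2.symm⟩)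
      · exact X.valV_zero
  exact h rows (fun _ hr => hr) c

theorem Ctx.valV_syn (m : ℕ) : (X.valV m : G) = X.nu (syn m) := by
  have h1 : X.valV m = X.valV (m ^^^ word (m % 4096)) := by rw [X.valV_xor, X.valV_word, mul_one]
  rw [h1, Ctx.nu]
  refine congrArg Subtype.val ?_
  unfold Ctx.valV
  refine congrArg List.prod (List.map_congr_left fun i hi => ?_)
  rw [List.mem_range] at hi
  rcases Nat.lt_succ_iff_lt_or_eq.1 hi with hi | rfl
  swap
  · have : X.dV (pt 23) (pt 23) = 1 := Subtype.ext (X.L.self _)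
    simp [this]
  congr 2
  rw [syn, Nat.testBit_shiftLeft, Nat.testBit_and, Nat.testBit_shiftRight]
  by_cases h12 : 12 ≤ i
  · have hb : (2047 : ℕ).testBit (i - 12) = true := by
      rw [show (2047 : ℕ) = 2 ^ 11 - 1 from rfl, Nat.testBit_two_pow_sub_one]; simp; omega
    simp [h12, hb, Nat.add_sub_cancel' h12]
  · have hw := congrArg (fun n => Nat.testBit n i) (word_mod (m % 4096) (Nat.mod_lt _ (by norm_num)))
    simp only [show (4096 : ℕ) = 2 ^ 12 from rfl, Nat.testBit_mod_two_pow] at hw ⊢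
    simp only [show i < 12 by omega, decide_true, Bool.true_and] at hw
    simp only [Nat.reducePow] at hw ⊢
    rw [Nat.testBit_xor]
    simp [hw, h12]

theorem Ctx.nu_synD {i j : ℕ} (hi : i < 24) (hj : j < 24) : X.nu (synD i j) = X.d (pt i) (pt j) := by
  rw [synD, ← X.valV_syn, X.valV_xor, Nat.one_shiftLeft, Nat.one_shiftLeft, X.valV_single hi, X.valV_single hj]
  show X.d (pt i) (pt 23) * X.d (pt j) (pt 23) = _
  rw [X.L.symm (pt j), X.L.tri]

theorem Ctx.nu_two_pow {k : ℕ} (hk : k < 11) : X.nu (2 ^ k) = X.d (pt (12 + k)) (pt 23) := by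
  rw [Ctx.nu, Nat.shiftLeft_eq, ← pow_add, X.valV_single (by omega), add_comm k 12]
  rfl

theorem Ctx.d_eq_nu (p q : GolayPt) : X.d p q = X.nu (synD (idx p) (idx q)) := by
  rw [X.nu_synD (idx_lt p) (idx_lt q), pt_idx, pt_idx]

theorem Ctx.nu_surj {v : G} (hv : v ∈ V) : ∃ s < 2048, X.nu s = v := by
  have hS : ∀ t ∈ nS z V, ∃ s < 2048, X.nu s = t := by
    intro t ht
    obtain ⟨p, q, -, rfl⟩ := X.L.cover t ht
    exact ⟨_, synD_lt _ _, (X.d_eq_nu p q).symm⟩
  by_cases h1 : v = 1
  · exact ⟨0, by norm_num, h1 ▸ X.nu_zero⟩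
  by_cases hz : IsConj z v
  · obtain ⟨u, hu⟩ := Finset.card_pos.1 (show 0 < ((nS z V).filter fun u => u * v ∈ nS z V).card by
      rw [X.C.pairs hv hz]; norm_num)
    rw [Finset.mem_filter] at hu
    obtain ⟨a, ha, ea⟩ := hS u hu.1
    obtain ⟨b, hb, eb⟩ := hS _ hu.2
    refine ⟨a ^^^ b, Nat.xor_lt_two_pow (n := 11) ha hb, ?_⟩
    rw [X.nu_xor, ea, eb, ← mul_assoc, X.C.sq u (mem_nS.1 hu.1).1, one_mul]
  · exact hS v (mem_nS.2 ⟨hv, h1, hz⟩)

theorem Ctx.nu_inj {a b : ℕ} (ha : a < 2048) (hb : b < 2048) (h : X.nu a = X.nu b) : a = b := by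
  let f : Fin 2048 → V := fun s => ⟨X.nu s, X.nu_mem s⟩
  have hsur : Function.Surjective f := fun v => by
    obtain ⟨s, hs, e⟩ := X.nu_surj v.2
    exact ⟨⟨s, hs⟩, Subtype.ext e⟩
  have hbij := (Nat.bijective_iff_surjective_and_card f).2 ⟨hsur, by rw [X.C.card]; simp⟩
  exact congrArg Fin.val (hbij.1 (Subtype.ext h : f ⟨a, ha⟩ = f ⟨b, hb⟩))

theorem Ctx.nu_eq_one {s : ℕ} (hs : s < 2048) : X.nu s = 1 ↔ s = 0 :=
  ⟨fun h => X.nu_inj hs (by norm_num) (h.trans X.nu_zero.symm), fun h => h ▸ X.nu_zero⟩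

/-- The syndromes of the pairs. -/
def duadMask : ℕ := 0x2100008048010001071801000100204800001400001082004100002200840000008188e10007118041000088002100004200008024010004d04240004000081400020010002084000180400810000200024080018008e080200108000400801012000088004100080000240e880800120b24020002008010420000180010117040020404d0404020018010024000080004240d42400004020000840b220200180010008042010000200402000400801100002400008800104800001200101172008b22004102000088e20080008400101002040008008014008000120010117004024000200008110080001800101170820000140010117000181170117177e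

/-- Whether a syndrome is that of a pair. -/
def isDuad (s : ℕ) : Bool := duadMask.testBit s

theorem isDuad_iff : ∀ s : ℕ, isDuad s = true ↔ ∃ i < 24, ∃ j < 24, i ≠ j ∧ synD i j = s := by
  have h1 : ∀ i < 24, ∀ j < 24, i ≠ j → isDuad (synD i j) = true := by decide +kernel
  have h2 : duadMask = ((List.range 24).flatMap fun i => (List.range 24).map fun j =>
      if i = j then 0 else 1 <<< synD i j).foldl (· ||| ·) 0 := by decide +kernel
  intro s
  refine ⟨fun h => ?_, fun ⟨i, hi, j, hj, hne, e⟩ => e ▸ h1 i hi j hj hne⟩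
  have hfold : ∀ (l : List ℕ) (a : ℕ), (l.foldl (· ||| ·) a).testBit s = true →
      a.testBit s = true ∨ ∃ x ∈ l, x.testBit s = true := by
    intro l
    induction l with
    | nil => intro a h; exact Or.inl h
    | cons x t ih =>
      intro a h
      rcases ih _ h with h | ⟨y, hy, h⟩
      · rw [Nat.testBit_or, Bool.or_eq_true] at h
        exact h.imp id fun h => ⟨x, List.mem_cons_self, h⟩
      · exact Or.inr ⟨y, List.mem_cons_of_mem _ hy, h⟩
  rw [isDuad, h2] at h
  rcases hfold _ _ h with h | ⟨x, hx, h⟩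
  · simp at h
  simp only [List.mem_flatMap, List.mem_map, List.mem_range] at hx
  obtain ⟨i, hi, j, hj, rfl⟩ := hx
  by_cases e : i = j
  · simp [e] at h
  rw [if_neg e, Nat.one_shiftLeft, Nat.testBit_two_pow, decide_eq_true_eq] at h
  exact ⟨i, hi, j, hj, e, h⟩

theorem Ctx.nu_mem_nS {s : ℕ} (hs : s < 2048) : X.nu s ∈ nS z V ↔ isDuad s = true := by
  rw [isDuad_iff]
  constructor
  · intro h
    obtain ⟨p, q, hpq, e⟩ := X.L.cover _ h
    exact ⟨idx p, idx_lt p, idx q, idx_lt q, fun h => hpq (idx_injective h),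
      X.nu_inj (synD_lt _ _) hs ((X.d_eq_nu p q).symm.trans e)⟩
  · rintro ⟨i, hi, j, hj, hne, rfl⟩
    rw [X.nu_synD hi hj]
    exact X.L.mem _ _ fun h => hne (by rw [← idx_pt i hi, ← idx_pt j hj, h])

theorem Ctx.isConj_nu {s : ℕ} (hs : s < 2048) (h0 : s ≠ 0) : IsConj z (X.nu s) ↔ isDuad s = false := by
  rw [← Bool.not_eq_true, ← X.nu_mem_nS hs, mem_nS]
  simp [X.nu_mem, mt (X.nu_eq_one hs).1 h0]

theorem Ctx.conj_nu (m : normalizer (V : Set G)) {s : ℕ} (hs : s < 2048) :
    (m : G) * X.nu s * (m : G)⁻¹ = X.nu (act (code (X.φ m : Equiv.Perm GolayPt)) s) := by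
  refine xor_ext (f := fun s => (m : G) * X.nu s * (m : G)⁻¹)
    (g := fun s => X.nu (act (code (X.φ m : Equiv.Perm GolayPt)) s)) (n := 11) ?_ ?_ ?_ ?_ s hs
  · simp [X.nu_zero, act_zero]
  · intro k hk
    show (m : G) * X.nu (2 ^ k) * (m : G)⁻¹ = X.nu (act _ (2 ^ k))
    rw [X.nu_two_pow hk, ← X.L.equiv, act, comb_two_pow, cols,
      List.getD_eq_getElem _ _ (by simpa using hk), List.getElem_map, List.getElem_range,
      get_code _ (by omega), get_code _ (by norm_num), X.nu_synD (idx_lt _) (idx_lt _), pt_idx, pt_idx]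
  · intro a b _ _
    show (m : G) * X.nu (a ^^^ b) * (m : G)⁻¹ = _
    rw [X.nu_xor, J4Eleven.conj_mul]
  · intro a b _ _
    show X.nu (act _ (a ^^^ b)) = _
    rw [act_xor, X.nu_xor]

theorem Ctx.conj_κ (σ : ↥M24) {s : ℕ} (hs : s < 2048) :
    X.κ σ * X.nu s * (X.κ σ)⁻¹ = X.nu (act (code (σ : Equiv.Perm GolayPt)) s) := by
  have h := X.conj_nu ⟨X.κ σ, X.κN σ⟩ hs
  rwa [X.κφ] at h

theorem Ctx.κ_injective : Function.Injective X.κ := fun σ τ h => by
  rw [← X.κφ σ, ← X.κφ τ]
  exact congrArg X.φ (Subtype.ext h)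

/-- The element with given coordinates. -/
noncomputable def Ctx.elem (s : ℕ) (σ : ↥M24) : G := X.nu s * X.κ σ

theorem Ctx.elem_mem (s : ℕ) (σ : ↥M24) : X.elem s σ ∈ normalizer (V : Set G) :=
  mul_mem (le_normalizer (X.nu_mem s)) (X.κN σ)

theorem Ctx.φ_elem (s : ℕ) (σ : ↥M24) : X.φ ⟨X.elem s σ, X.elem_mem s σ⟩ = σ := by
  rw [show (⟨X.elem s σ, X.elem_mem s σ⟩ : normalizer (V : Set G)) =
    ⟨X.nu s, le_normalizer (X.nu_mem s)⟩ * ⟨X.κ σ, X.κN σ⟩ from rfl, map_mul, X.κφ,
    (X.L.ker _).2 (X.nu_mem s), one_mul]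

theorem Ctx.elem_mul {s t : ℕ} (ht : t < 2048) (σ τ : ↥M24) :
    X.elem s σ * X.elem t τ = X.elem (s ^^^ act (code (σ : Equiv.Perm GolayPt)) t) (σ * τ) := by
  simp only [Ctx.elem, X.nu_xor, map_mul, ← X.conj_κ σ ht]
  group

theorem Ctx.elem_inj {s t : ℕ} (hs : s < 2048) (ht : t < 2048) {σ τ : ↥M24}
    (h : X.elem s σ = X.elem t τ) : s = t ∧ σ = τ := by
  have e : σ = τ := by
    rw [← X.φ_elem s σ, ← X.φ_elem t τ]
    exact congrArg X.φ (Subtype.ext h)
  exact ⟨X.nu_inj hs ht (mul_right_cancel (e ▸ h : X.nu s * X.κ τ = X.nu t * X.κ τ)), e⟩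

theorem Ctx.exists_elem {m : G} (hm : m ∈ normalizer (V : Set G)) :
    ∃ s < 2048, m = X.elem s (X.φ ⟨m, hm⟩) := by
  have h : (⟨m, hm⟩ * ⟨X.κ (X.φ ⟨m, hm⟩), X.κN _⟩⁻¹ : normalizer (V : Set G)).1 ∈ V := by
    rw [← X.L.ker, map_mul, map_inv, X.κφ, mul_inv_cancel]
  obtain ⟨s, hs, e⟩ := X.nu_surj h
  refine ⟨s, hs, ?_⟩
  rw [Ctx.elem, e]
  simp

theorem Ctx.elem_one : X.elem 0 1 = 1 := by simp [Ctx.elem, X.nu_zero]

include X in
theorem Ctx.act_mul (σ τ : ↥M24) {s : ℕ} (hs : s < 2048) :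
    act (code ((σ * τ : ↥M24) : Equiv.Perm GolayPt)) s =
      act (code (σ : Equiv.Perm GolayPt)) (act (code (τ : Equiv.Perm GolayPt)) s) := by
  refine Ctx.nu_inj X (act_lt _ _) (act_lt _ _) ?_
  rw [← X.conj_κ _ hs, ← X.conj_κ _ (act_lt _ _), ← X.conj_κ _ hs, map_mul]
  group

end CfsgLib.J4Ten
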