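import Cfsg.Agent.J4Ten.Data
import Cfsg.Agent.J4Ten.Model
import Cfsg.Agent.Golay.MathieuFusion

/-!
Searches among elementary abelian subgroups of a Sylow 2-subgroup of the Mathieu group.
-/

set_option autoImplicit false
set_option maxRecDepth 100000
set_option linter.style.haveILetI false

namespace CfsgLib.J4Ten

open Cfsg CfsgLib.Golay CfsgLib.Golay.SylowCert

/-- The Sylow subgroup. -/
def sylT : Subgroup (Equiv.Perm GolayPt) := pcGroup m24Pc m24Pc.length

theorem invs_complete : ∀ L ∈ els m24Pc m24Pc.length,
    ((List.range 24).all fun i => L.getD (L.getD i 0) 0 == i) = true → encL L = oneCode ∨ encL L ∈ invs := by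
  decide +kernel

theorem code_mem_invs {x : Equiv.Perm GolayPt} (hx : x ∈ sylT) (h2 : x * x = 1) (h1 : x ≠ 1) :
    code x ∈ invs := by
  refine (invs_complete _ ((mem_pcGroup pc24 _ le_rfl x).1 hx) ?_).resolve_left ?_
  · simp only [List.all_eq_true, List.mem_range, beq_iff_eq]
    intro i hi
    rw [toList_getD x hi, toList_getD_idx, ← Equiv.Perm.mul_apply, h2]
    exact idx_pt i hi
  · exact fun e => h1 (code_injective (e.trans code_one.symm))

/-- Whether a product is smaller than its left factor, read from the top digit. -/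
def ltC (f d : ℕ) : ℕ → Bool
  | 0 => false
  | i + 1 => if get f (get d i) == get f i then ltC f d i else decide (get f (get d i) < get f i)

theorem lt_of_ltC (x y : Equiv.Perm GolayPt) (h : ltC (code x) (code y) 24 = true) :
    code (x * y) < code x := by
  have hlt : ∀ σ : Equiv.Perm GolayPt, code σ >>> (5 * 24) = 0 := by
    have key : ∀ l : List ℕ, (∀ a ∈ l, a < 32) → encL l >>> (5 * l.length) = 0 := by
      intro l
      induction l with
      | nil => intro _; rfl
      | cons a l ih =>
        intro ha
        rw [List.length_cons, show 5 * (l.length + 1) = 5 + 5 * l.length by ring, Nat.shiftRight_add,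
          Nat.shiftRight_eq_div_pow (encL (a :: l)) 5, encL, show (2 : ℕ) ^ 5 = 32 from rfl,
          Nat.add_mul_div_left _ _ (by norm_num), Nat.div_eq_of_lt (ha a List.mem_cons_self), Nat.zero_add]
        exact ih fun b hb => ha b (List.mem_cons_of_mem _ hb)
    intro σ
    have h := key (toList σ) fun a ha => by
      simp only [toList, List.mem_map] at ha
      obtain ⟨i, -, rfl⟩ := ha
      exact (idx_lt _).trans (by norm_num)
    rwa [show (toList σ).length = 24 by simp [toList]] at h
  have split : ∀ n i : ℕ, n >>> (5 * i) = 32 * (n >>> (5 * (i + 1))) + get n i := by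
    intro n i
    rw [show 5 * (i + 1) = 5 * i + 5 by ring, Nat.shiftRight_add, get, show (31 : ℕ) = 2 ^ 5 - 1 from rfl,
      Nat.and_two_pow_sub_one_eq_mod, Nat.shiftRight_eq_div_pow _ 5, show (2 : ℕ) ^ 5 = 32 from rfl]
    exact (Nat.div_add_mod _ _).symm
  have key : ∀ i ≤ 24, ltC (code x) (code y) i = true →
      code (x * y) >>> (5 * i) = code x >>> (5 * i) → code (x * y) < code x := by
    intro i
    induction i with
    | zero => intro _ h; simp [ltC] at h
    | succ i ih =>
      intro hi h he
      have hi' : i < 24 := hi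
      have hg : get (code (x * y)) i = get (code x) (get (code y) i) := by
        rw [get_code _ hi', get_code y hi', get_code x (idx_lt _), pt_idx]
        rfl
      rw [ltC] at h
      split at h
      · rename_i e
        rw [beq_iff_eq] at e
        refine ih hi'.le h ?_
        rw [split, split (code x), he, hg, e]
      · rw [decide_eq_true_eq, ← hg] at h
        by_contra hn
        push Not at hn
        have := Nat.div_le_div_right (c := 2 ^ (5 * i)) hn
        rw [← Nat.shiftRight_eq_div_pow, ← Nat.shiftRight_eq_div_pow, split, split (code (x * y)), he] at this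
        omega
  exact key 24 le_rfl h (by rw [hlt, hlt])

/-- Eliminate one coordinate of the images. -/
def cut (k : ℕ) : List (ℕ × ℕ) → List (ℕ × ℕ)
  | [] => []
  | p :: l => if p.2.testBit k then
      l.map fun q => if q.2.testBit k then (q.1 ^^^ p.1, q.2 ^^^ p.2) else q
    else p :: cut k l

/-- Spanning vectors for the fixed part of a span. -/
def kerStep (f : ℕ) (F : List ℕ) : List ℕ :=
  let C := cols f
  ((List.range 11).foldl (fun P k => cut k P) (F.map fun b => (b, comb C b ^^^ b))).map Prod.fst

theorem mem_spanL_cons {b s : ℕ} {l : List ℕ} :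
    s ∈ spanL (b :: l) ↔ s ∈ spanL l ∨ s ^^^ b ∈ spanL l := by
  simp only [spanL, List.mem_append, List.mem_map]
  refine or_congr Iff.rfl ⟨?_, fun h => ⟨_, h, ?_⟩⟩
  · rintro ⟨t, ht, rfl⟩
    rwa [Nat.xor_comm b t, Nat.xor_assoc, Nat.xor_self, Nat.xor_zero]
  · rw [Nat.xor_comm s b, ← Nat.xor_assoc, Nat.xor_self, Nat.zero_xor]

theorem cut_spec (f k : ℕ) : ∀ P : List (ℕ × ℕ), (∀ q ∈ P, q.2 = dif f q.1) →
    (∀ q ∈ cut k P, q.2 = dif f q.1) ∧
    ∀ s, s ∈ spanL (P.map Prod.fst) → (dif f s).testBit k = false → s ∈ spanL ((cut k P).map Prod.fst) := by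
  intro P
  induction P with
  | nil => intro _; exact ⟨by simp [cut], fun s hs _ => by simpa [cut] using hs⟩
  | cons p l ih =>
    intro h
    have hl : ∀ q ∈ l, q.2 = dif f q.1 := fun q hq => h q (List.mem_cons_of_mem _ hq)
    have hp := h p List.mem_cons_self
    obtain ⟨ih1, ih2⟩ := ih hl
    by_cases hb : p.2.testBit k = true
    · rw [cut, if_pos hb]
      set g : ℕ × ℕ → ℕ × ℕ := fun q => if q.2.testBit k then (q.1 ^^^ p.1, q.2 ^^^ p.2) else q
      refine ⟨?_, ?_⟩
      · intro q hq
        rw [List.mem_map] at hq
        obtain ⟨q, hq, rfl⟩ := hq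
        show (g q).2 = dif f (g q).1
        simp only [g]
        split
        · simp only
          rw [dif_xor, hl q hq, hp]
        · exact hl q hq
      · have key : ∀ l : List (ℕ × ℕ), (∀ q ∈ l, q.2 = dif f q.1) → ∀ y ∈ spanL (l.map Prod.fst),
            (if (dif f y).testBit k then y ^^^ p.1 else y) ∈ spanL ((l.map g).map Prod.fst) := by
          intro l
          induction l with
          | nil =>
            intro _ y hy
            simp only [List.map_nil, spanL, List.mem_singleton] at hy ⊢
            subst hy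
            simp [dif, act_zero]
          | cons q t iht =>
            intro ht y hy
            rw [List.map_cons, List.map_cons, mem_spanL_cons]
            have hq := ht q List.mem_cons_self
            have iht' := iht fun r hr => ht r (List.mem_cons_of_mem _ hr)
            rw [List.map_cons, mem_spanL_cons] at hy
            rcases hy with hy | hy
            · exact Or.inl (iht' y hy)
            · refine Or.inr ?_
              have h2 := iht' _ hy
              rw [dif_xor, ← hq, Nat.testBit_xor] at h2
              have c1 : y ^^^ p.1 ^^^ (q.1 ^^^ p.1) = y ^^^ q.1 := by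
                rw [Nat.xor_comm q.1 p.1, ← Nat.xor_assoc, Nat.xor_assoc y p.1 p.1, Nat.xor_self, Nat.xor_zero]
              have c2 : y ^^^ q.1 ^^^ p.1 = y ^^^ (q.1 ^^^ p.1) := Nat.xor_assoc _ _ _
              have c3 : y ^^^ p.1 ^^^ q.1 = y ^^^ q.1 ^^^ p.1 := by ac_rfl
              simp only [g] at h2 ⊢
              revert h2
              cases (dif f y).testBit k <;> cases q.2.testBit k <;> simp [c1, c2, c3]
        intro s hs hk
        rw [List.map_cons, mem_spanL_cons] at hs
        rcases hs with hs | hs
        · have := key l hl s hs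
          rwa [if_neg (by simp [hk])] at this
        · have := key l hl _ hs
          rw [dif_xor, ← hp, Nat.testBit_xor, hk, hb] at this
          simpa [Nat.xor_assoc] using this
    · rw [cut, if_neg hb]
      refine ⟨?_, ?_⟩
      · intro q hq
        rw [List.mem_cons] at hq
        rcases hq with rfl | hq
        exacts [hp, ih1 q hq]
      · intro s hs hk
        rw [List.map_cons, mem_spanL_cons] at hs ⊢
        rcases hs with hs | hs
        · exact Or.inl (ih2 s hs hk)
        · refine Or.inr (ih2 _ hs ?_)
          rw [dif_xor, ← hp, Nat.testBit_xor, hk]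
          simpa using hb

theorem kerStep_spec {f s : ℕ} {F : List ℕ} (hs : s ∈ spanL F) (hfix : act f s = s) :
    s ∈ spanL (kerStep f F) := by
  have h0 : dif f s = 0 := by rw [dif, hfix, Nat.xor_self]
  have key : ∀ (ks : List ℕ) (P : List (ℕ × ℕ)), (∀ q ∈ P, q.2 = dif f q.1) → s ∈ spanL (P.map Prod.fst) →
      s ∈ spanL ((ks.foldl (fun P k => cut k P) P).map Prod.fst) := by
    intro ks
    induction ks with
    | nil => intro P _ h; exact h
    | cons k t ih =>
      intro P hP h
      obtain ⟨h1, h2⟩ := cut_spec f k P hP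
      exact ih _ h1 (h2 s h (by rw [h0]; exact Nat.zero_testBit k))
  refine key _ _ ?_ ?_
  · intro q hq
    rw [List.mem_map] at hq
    obtain ⟨b, -, rfl⟩ := hq
    rfl
  · rwa [List.map_map, show (Prod.fst ∘ fun b => (b, comb (cols f) b ^^^ b)) = id from rfl, List.map_id]

attribute [local irreducible] code comp comm cols

/-- Data of a subgroup reached by the search. -/
structure Node (D : Subgroup (Equiv.Perm GolayPt)) (Dl cand : List ℕ) : Prop where
  one : oneCode ∈ Dl
  mem : ∀ a ∈ Dl, ∃ x ∈ D, code x = a
  mul : ∀ a ∈ Dl, ∀ b ∈ Dl, comp a b ∈ Dl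
  rest : ∀ x ∈ D, code x ∉ Dl → code x ∈ cand

/-- The next list of a search. -/
def nextC (f : ℕ) (cand : List ℕ) : List ℕ := cand.filter fun g => decide (f < g) && comm f g

/-- Skipped candidates. -/
def skipB (Dl : List ℕ) (f : ℕ) : Bool := Dl.any fun d => ltC f d 24

theorem card_le_length {D : Subgroup (Equiv.Perm GolayPt)} {l : List ℕ} (h : ∀ x ∈ D, code x ∈ l) :
    Nat.card D ≤ l.length := by
  have hf : Function.Injective (fun y : D => (⟨l.idxOf (code (y : Equiv.Perm GolayPt)),
      List.idxOf_lt_length_of_mem (h _ y.2)⟩ : Fin l.length)) := fun a b e =>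
    Subtype.ext (code_injective ((List.idxOf_inj (h _ a.2)).1 (congrArg Fin.val e)))
  simpa using Nat.card_le_card_of_injective _ hf

/-- One step of either search. -/
theorem Node.step {D : Subgroup (Equiv.Perm GolayPt)} {Dl cand : List ℕ} (hN : Node D Dl cand)
    (hsq : ∀ x ∈ D, x * x = 1) (hne : ¬ ∀ x ∈ D, code x ∈ Dl) :
    ∃ x ∈ D, code x ∈ cand ∧ skipB Dl (code x) = false ∧
      Node D (Dl ++ Dl.map (comp (code x))) (nextC (code x) cand) ∧
      Nat.card D ≤ 2 * Dl.length + (nextC (code x) cand).length := by
  classical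
  have hcomm : ∀ {a b}, a ∈ D → b ∈ D → a * b = b * a := by
    intro a b ha hb
    have i := inv_eq_of_mul_eq_one_right (hsq _ (mul_mem ha hb))
    rwa [mul_inv_rev, inv_eq_of_mul_eq_one_right (hsq a ha), inv_eq_of_mul_eq_one_right (hsq b hb), eq_comm] at i
  have hS : ∃ n, ∃ x ∈ D, code x ∉ Dl ∧ code x = n := by
    push Not at hne
    obtain ⟨x, hx, hx'⟩ := hne
    exact ⟨_, x, hx, hx', rfl⟩
  obtain ⟨x, hx, hxl, hxn⟩ := Nat.find_spec hS
  have hmin : ∀ y ∈ D, code y ∉ Dl → code x ≤ code y := fun y hy hyl =>
    hxn ▸ Nat.find_le ⟨y, hy, hyl, rfl⟩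
  refine ⟨x, hx, hN.rest x hx hxl, ?_, ?_⟩
  · rw [skipB, List.any_eq_false]
    intro a ha h
    obtain ⟨y, hy, rfl⟩ := hN.mem a ha
    refine absurd (hmin _ (mul_mem hx hy) ?_) (not_le.2 (lt_of_ltC x y h))
    intro hmem
    have := hN.mul _ hmem _ ha
    rw [comp_code, mul_assoc, hsq y hy, mul_one] at this
    exact hxl this
  have hnode : Node D (Dl ++ Dl.map (comp (code x))) (nextC (code x) cand) := by
    refine ⟨List.mem_append_left _ hN.one, ?_, ?_, ?_⟩
    · intro a ha
      rw [List.mem_append, List.mem_map] at ha
      rcases ha with ha | ⟨b, hb, rfl⟩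
      · exact hN.mem a ha
      · obtain ⟨y, hy, rfl⟩ := hN.mem b hb
        exact ⟨x * y, mul_mem hx hy, (comp_code x y).symm⟩
    · have split : ∀ a ∈ Dl ++ Dl.map (comp (code x)), ∃ y ∈ D, code y ∈ Dl ∧ (a = code y ∨ a = code (x * y)) := by
        intro a ha
        rw [List.mem_append, List.mem_map] at ha
        rcases ha with ha | ⟨b, hb, rfl⟩
        · obtain ⟨y, hy, rfl⟩ := hN.mem a ha
          exact ⟨y, hy, ha, Or.inl rfl⟩
        · obtain ⟨y, hy, rfl⟩ := hN.mem b hb
          exact ⟨y, hy, hb, Or.inr (comp_code x y)⟩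
      intro a ha b hb
      obtain ⟨u, hu, hul, ea⟩ := split a ha
      obtain ⟨w, hw, hwl, eb⟩ := split b hb
      have huw : code (u * w) ∈ Dl := comp_code u w ▸ hN.mul _ hul _ hwl
      rw [List.mem_append, List.mem_map]
      rcases ea with rfl | rfl <;> rcases eb with rfl | rfl <;> rw [comp_code]
      · exact Or.inl huw
      · refine Or.inr ⟨_, huw, ?_⟩
        rw [comp_code, ← mul_assoc u, hcomm hu hx, mul_assoc x]
      · exact Or.inr ⟨_, huw, by rw [comp_code, mul_assoc]⟩
      · refine Or.inl ?_
        rwa [mul_assoc, ← mul_assoc u, hcomm hu hx, mul_assoc x u, ← mul_assoc x x, hsq x hx, one_mul]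
    · intro y hy hyl
      rw [List.mem_append, not_or] at hyl
      have hlt : code x < code y := lt_of_le_of_ne (hmin y hy hyl.1) fun e => hyl.2 (List.mem_map.2
        ⟨oneCode, hN.one, by rw [← code_one, comp_code, mul_one, e]⟩)
      exact List.mem_filter.2 ⟨hN.rest y hy hyl.1, by simp [hlt, comm_code (hcomm hx hy)]⟩
  refine ⟨hnode, ?_⟩
  refine (card_le_length (l := (Dl ++ Dl.map (comp (code x))) ++ nextC (code x) cand) fun y hy => ?_).trans
    (le_of_eq ?_)
  · rw [List.mem_append]
    exact (em _).imp_right (hnode.rest _ hy)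
  · simp only [List.length_append, List.length_map]
    omega

theorem Node.start {D : Subgroup (Equiv.Perm GolayPt)} (hT : D ≤ sylT) (hsq : ∀ x ∈ D, x * x = 1) :
    Node D [oneCode] invs := by
  refine ⟨by simp, fun a ha => ⟨1, one_mem _, by rw [List.mem_singleton] at ha; rw [ha, code_one]⟩, ?_, ?_⟩
  · intro a ha b hb
    rw [List.mem_singleton] at ha hb ⊢
    rw [ha, hb, ← code_one, comp_code, mul_one]
  · intro x hx h
    exact code_mem_invs (hT hx) (hsq x hx) fun e => h (by rw [e, code_one]; simp)

/-! ### Fixed spaces of size `1024 / |D|` -/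

/-- The first search. -/
def searchTen : ℕ → List ℕ → List ℕ → List ℕ → Bool
  | 0, _, _, _ => false
  | n + 1, Dl, F, cand =>
    (Dl.length == 1 || decide (2 ^ F.length * Dl.length < 1024) ||
      ((Dl.all fun a => decide (a ∈ fixL)) && (fixL.all fun a => decide (a ∈ Dl)))) &&
    cand.all fun f => skipB Dl f ||
      let F2 := kerStep f F
      let c2 := nextC f cand
      decide (2 ^ F2.length * (2 * Dl.length + c2.length) < 1024) ||
        searchTen n (Dl ++ Dl.map (comp f)) F2 c2

theorem searchTen_start : searchTen 8 [oneCode] ((List.range 11).map (2 ^ ·)) invs = true := by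
  decide +kernel

theorem searchTen_sound {D : Subgroup (Equiv.Perm GolayPt)} (hsq : ∀ x ∈ D, x * x = 1) (hD : 2 < Nat.card D)
    (Fix : Finset ℕ) (hfix : ∀ x ∈ D, ∀ s ∈ Fix, act (code x) s = s) (hcard : Nat.card D * Fix.card = 1024) :
    ∀ (n : ℕ) (Dl F cand : List ℕ), searchTen n Dl F cand = true → Node D Dl cand →
      (∀ s ∈ Fix, s ∈ spanL F) → ∀ σ, σ ∈ D ↔ code σ ∈ fixL := by
  have hFle : ∀ F : List ℕ, (∀ s ∈ Fix, s ∈ spanL F) → Fix.card ≤ 2 ^ F.length := fun F hF => by
    classical
    rw [← length_spanL]
    exact (Finset.card_le_card (t := (spanL F).toFinset) fun s hs => List.mem_toFinset.2 (hF s hs)).trans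
      (List.toFinset_card_le _)
  intro n
  induction n with
  | zero => intro _ _ _ h; simp [searchTen] at h
  | succ n ih =>
    intro Dl F cand h hN hF
    simp only [searchTen, Bool.and_eq_true, Bool.or_eq_true, List.all_eq_true, decide_eq_true_eq, beq_iff_eq] at h
    by_cases hall : ∀ x ∈ D, code x ∈ Dl
    · have hle : Nat.card D ≤ Dl.length := card_le_length hall
      rcases h.1 with (h1 | h1) | h1
      · omega
      · have := Nat.mul_le_mul hle (hFle F hF)
        rw [hcard, mul_comm] at this
        omega
      · exact fun σ => ⟨fun hσ => h1.1 _ (hall σ hσ), fun hσ => by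
          obtain ⟨y, hy, e⟩ := hN.mem _ (h1.2 _ hσ)
          exact code_injective e ▸ hy⟩
    · obtain ⟨x, hx, hxc, hskip, hN', hle⟩ := hN.step hsq hall
      have hF' : ∀ s ∈ Fix, s ∈ spanL (kerStep (code x) F) := fun s hs => kerStep_spec (hF s hs) (hfix x hx s hs)
      have h2 := h.2 _ hxc
      rw [hskip] at h2
      rcases h2 with h2 | h2
      · simp at h2
      rcases h2 with h2 | h2
      · have := Nat.mul_le_mul hle (hFle _ hF')
        rw [hcard, mul_comm] at this
        omega
      · exact ih _ _ _ h2 hN' hF'

theorem mem_spanL_two_pow : ∀ n s : ℕ, s < 2 ^ n → s ∈ spanL ((List.range n).map (2 ^ ·)) := by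
  intro n
  have key : ∀ n s : ℕ, s < 2 ^ n → ∀ j, s <<< j ∈ spanL ((List.range' j n).map (2 ^ ·)) := by
    intro n
    induction n with
    | zero => intro s hs j; simp [spanL, Nat.lt_one_iff.1 (by simpa using hs)]
    | succ n ih =>
      intro s hs j
      rw [List.range'_succ, List.map_cons, mem_spanL_cons]
      have h := ih (s / 2) (by rw [pow_succ] at hs; omega) (j + 1)
      rw [Nat.shiftLeft_eq, pow_succ] at h
      rw [Nat.shiftLeft_eq]
      rcases Nat.mod_two_eq_zero_or_one s with e | e
      · left
        rwa [show s * 2 ^ j = s / 2 * (2 ^ j * 2) by rw [← mul_assoc, mul_comm (s / 2) (2 ^ j), mul_assoc,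
          Nat.div_mul_cancel (Nat.dvd_of_mod_eq_zero e), mul_comm]]
      · right
        have e2 : s * 2 ^ j = (s / 2 * (2 ^ j * 2)) ^^^ 2 ^ j := by
          rw [show s / 2 * (2 ^ j * 2) = (s / 2 * 2) <<< j by rw [Nat.shiftLeft_eq]; ring,
            show (2 : ℕ) ^ j = 1 <<< j by rw [Nat.one_shiftLeft], ← Nat.shiftLeft_xor_distrib,
            show s * 1 <<< j = s <<< j by rw [Nat.shiftLeft_eq, Nat.shiftLeft_eq, one_mul]]
          congr 1
          apply Nat.eq_of_testBit_eq
          intro i
          rw [Nat.testBit_xor]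
          rcases i with _ | i <;> simp [Nat.testBit_zero, Nat.testBit_succ, e, Nat.mul_mod_left]
        rwa [e2, Nat.xor_assoc, Nat.xor_self, Nat.xor_zero]
  intro hs h
  simpa [List.range_eq_range'] using key n hs h 0

/-- The only subgroup with fixed space of order `1024 / |D|`. -/
theorem eq_fixL {D : Subgroup (Equiv.Perm GolayPt)} (hT : D ≤ sylT) (hsq : ∀ x ∈ D, x * x = 1)
    (hD : 2 < Nat.card D) (Fix : Finset ℕ) (hlt : ∀ s ∈ Fix, s < 2048)
    (hfix : ∀ x ∈ D, ∀ s ∈ Fix, act (code x) s = s) (hcard : Nat.card D * Fix.card = 1024) :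
    ∀ σ, σ ∈ D ↔ code σ ∈ fixL :=
  searchTen_sound hsq hD Fix hfix hcard _ _ _ _ searchTen_start (Node.start hT hsq)
    fun s hs => mem_spanL_two_pow 11 s (hlt s hs)

/-! ### Images of order 64 -/

/-- Reduction by earlier vectors. -/
def addRed (B : List ℕ) (b : ℕ) : List ℕ :=
  let r := B.foldl (fun b p => if b.testBit p.log2 then b ^^^ p else b) b
  if r == 0 then B else B ++ [r]

/-- Extension by the commutators with one element. -/
def extB (f : ℕ) (B : List ℕ) : List ℕ :=
  let C := cols f
  ((List.range 11).map fun k => C.getD k 0 ^^^ 2 ^ k).foldl addRed B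

/-- Independence by leading bits. -/
def indB : List ℕ → Bool
  | [] => true
  | b :: l => b.testBit b.log2 && (l.all fun c => !c.testBit b.log2) && indB l

theorem nodup_spanL : ∀ B : List ℕ, indB B = true → (spanL B).Nodup := by
  intro B
  induction B with
  | nil => intro _; simp [spanL]
  | cons b l ih =>
    intro h
    simp only [indB, Bool.and_eq_true, List.all_eq_true, Bool.not_eq_true'] at h
    obtain ⟨⟨hb, hl⟩, hind⟩ := h
    have hz : ∀ (t : List ℕ), (∀ c ∈ t, c.testBit b.log2 = false) → ∀ y ∈ spanL t, y.testBit b.log2 = false := by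
      intro t
      induction t with
      | nil => intro _ y hy; simp [spanL] at hy; simp [hy]
      | cons c t iht =>
        intro hc y hy
        rw [mem_spanL_cons] at hy
        rcases hy with hy | hy
        · exact iht (fun d hd => hc d (List.mem_cons_of_mem _ hd)) y hy
        · have := iht (fun d hd => hc d (List.mem_cons_of_mem _ hd)) _ hy
          rw [Nat.testBit_xor, hc c List.mem_cons_self] at this
          simpa using this
    rw [spanL, List.nodup_append]
    refine ⟨ih hind, (ih hind).map fun a c e => Nat.xor_right_injective e, fun a ha c hc e => ?_⟩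
    rw [List.mem_map] at hc
    obtain ⟨y, hy, rfl⟩ := hc
    have h1 := hz l hl a ha
    rw [e, Nat.testBit_xor, hb, hz l hl y hy] at h1
    simp at h1

/-- Whether all points are moved. -/
def fpfB (F : ℕ) : Bool := (List.range 24).all fun i => get F i != i

/-- The second search. -/
def searchSix : ℕ → List ℕ → List ℕ → List ℕ → Bool
  | 0, _, _, _ => false
  | n + 1, Dl, B, cand =>
    if 64 ≤ Dl.length then
      indB B && B.length == 7 && decide Dl.Nodup &&
        decide (128 * (Dl.filter fpfB).length + ((spanL B).filter isDuad).length <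
          77 * ((spanL B).filter isDuad).length)
    else cand.all fun f => skipB Dl f ||
      let B2 := extB f B
      (decide (8 ≤ B2.length) && indB B2) ||
        let c2 := nextC f cand
        decide (2 * Dl.length + c2.length < 64) || searchSix n (Dl ++ Dl.map (comp f)) B2 c2

theorem searchSix_start : searchSix 8 [oneCode] [] invs = true := by decide +kernel

theorem addRed_mem (X : Finset ℕ) (hx : ∀ a ∈ X, ∀ b ∈ X, a ^^^ b ∈ X) :
    ∀ (bs B : List ℕ), (∀ b ∈ B, b ∈ X) → (∀ b ∈ bs, b ∈ X) → ∀ b ∈ bs.foldl addRed B, b ∈ X := by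
  intro bs
  induction bs with
  | nil => intro B hB _; exact hB
  | cons a t ih =>
    intro B hB hbs
    refine ih _ ?_ fun b hb => hbs b (List.mem_cons_of_mem _ hb)
    have key : ∀ (l : List ℕ) (c : ℕ), (∀ b ∈ l, b ∈ X) → c ∈ X →
        l.foldl (fun b p => if b.testBit p.log2 then b ^^^ p else b) c ∈ X := by
      intro l
      induction l with
      | nil => intro c _ hc; exact hc
      | cons p l ihl =>
        intro c hl hc
        refine ihl _ (fun b hb => hl b (List.mem_cons_of_mem _ hb)) ?_
        beta_reduce
        split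
        · exact hx _ hc _ (hl p List.mem_cons_self)
        · exact hc
    intro b hb
    have hr := key B a hB (hbs a List.mem_cons_self)
    simp only [addRed] at hb
    split at hb
    · exact hB b hb
    · rw [List.mem_append, List.mem_singleton] at hb
      rcases hb with hb | rfl
      exacts [hB b hb, hr]

theorem spanL_subset (X : Finset ℕ) (h0 : 0 ∈ X) (hx : ∀ a ∈ X, ∀ b ∈ X, a ^^^ b ∈ X) :
    ∀ B : List ℕ, (∀ b ∈ B, b ∈ X) → ∀ s ∈ spanL B, s ∈ X := by
  intro B
  induction B with
  | nil => intro _ s hs; simp [spanL] at hs; exact hs ▸ h0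
  | cons b l ih =>
    intro h s hs
    simp only [spanL, List.mem_append, List.mem_map] at hs
    rcases hs with hs | ⟨t, ht, rfl⟩
    · exact ih (fun c hc => h c (List.mem_cons_of_mem _ hc)) s hs
    · exact hx _ (h b List.mem_cons_self) _ (ih (fun c hc => h c (List.mem_cons_of_mem _ hc)) t ht)

/-- For a subgroup of order 64 moving vectors into 128 ones, few elements move all points. -/
theorem count_six {D : Subgroup (Equiv.Perm GolayPt)} (hT : D ≤ sylT) (hsq : ∀ x ∈ D, x * x = 1)
    (hD : Nat.card D = 64) (X : Finset ℕ) (hX : X.card = 128) (h0 : 0 ∈ X)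
    (hx : ∀ a ∈ X, ∀ b ∈ X, a ^^^ b ∈ X) (hdif : ∀ x ∈ D, ∀ k < 11, dif (code x) (2 ^ k) ∈ X) :
    128 * Set.ncard {x : Equiv.Perm GolayPt | x ∈ D ∧ ∀ p, x p ≠ p} + (X.filter fun s => isDuad s = true).card
      < 77 * (X.filter fun s => isDuad s = true).card := by
  classical
  have key : ∀ (n : ℕ) (Dl B cand : List ℕ), searchSix n Dl B cand = true → Node D Dl cand → (∀ b ∈ B, b ∈ X) →
      128 * Set.ncard {x : Equiv.Perm GolayPt | x ∈ D ∧ ∀ p, x p ≠ p} + (X.filter fun s => isDuad s = true).card
        < 77 * (X.filter fun s => isDuad s = true).card := by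
    intro n
    induction n with
    | zero => intro _ _ _ h; simp [searchSix] at h
    | succ n ih =>
      intro Dl B cand h hN hB
      simp only [searchSix] at h
      split at h
      · rename_i h64
        simp only [Bool.and_eq_true, decide_eq_true_eq, beq_iff_eq] at h
        obtain ⟨⟨⟨hind, hlen⟩, hnd⟩, hlt⟩ := h
        have hspan : (spanL B).toFinset = X := by
          refine Finset.eq_of_subset_of_card_le (fun s hs => spanL_subset X h0 hx B hB s (List.mem_toFinset.1 hs)) ?_
          rw [List.toFinset_card_of_nodup (nodup_spanL B hind), length_spanL, hlen, hX]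
          norm_num
        have hduad : (X.filter fun s => isDuad s = true).card = ((spanL B).filter isDuad).length := by
          rw [← hspan, ← List.toFinset_filter, List.toFinset_card_of_nodup ((nodup_spanL B hind).filter _)]
        have hcodes : ∀ x ∈ D, code x ∈ Dl := by
          let Fd : Finset (Equiv.Perm GolayPt) := Finset.univ.filter fun x => x ∈ D
          have hFd : Fd.card = 64 := by exact (Nat.subtype_card Fd fun x => by simp [Fd]).symm.trans hD
          have hsub : Dl.toFinset ⊆ Fd.image code := fun a ha => by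
            obtain ⟨y, hy, e⟩ := hN.mem a (List.mem_toFinset.1 ha)
            exact Finset.mem_image.2 ⟨y, by simp [Fd, hy], e⟩
          have heq := Finset.eq_of_subset_of_card_le hsub (by
            rw [Finset.card_image_of_injective _ code_injective, hFd, List.toFinset_card_of_nodup hnd]; exact h64)
          intro x hx'
          rw [← List.mem_toFinset, heq]
          exact Finset.mem_image.2 ⟨x, by simp [Fd, hx'], rfl⟩
        have hfp : Set.ncard {x : Equiv.Perm GolayPt | x ∈ D ∧ ∀ p, x p ≠ p} ≤ (Dl.filter fpfB).length := by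
          rw [← List.toFinset_card_of_nodup (hnd.filter _), ← Set.ncard_coe_finset]
          refine Set.ncard_le_ncard_of_injOn code ?_ code_injective.injOn (Finset.finite_toSet _)
          rintro x ⟨hx', hmove⟩
          simp only [Finset.mem_coe, List.mem_toFinset, List.mem_filter]
          refine ⟨hcodes x hx', ?_⟩
          simp only [fpfB, List.all_eq_true, List.mem_range, bne_iff_ne]
          intro i hi e
          rw [get_code x hi] at e
          exact hmove (pt i) (idx_injective (by rw [e, idx_pt i hi]))
        rw [hduad]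
        omega
      · rename_i h64
        simp only [List.all_eq_true, Bool.or_eq_true, decide_eq_true_eq, Bool.and_eq_true] at h
        have hne : ¬ ∀ x ∈ D, code x ∈ Dl := by
          intro hall
          have := card_le_length hall
          omega
        obtain ⟨x, hx', hxc, hskip, hN', hle⟩ := hN.step hsq hne
        have hB' : ∀ b ∈ extB (code x) B, b ∈ X := by
          refine addRed_mem X hx _ B hB ?_
          intro b hb
          simp only [List.mem_map, List.mem_range] at hb
          obtain ⟨k, hk, rfl⟩ := hb
          have := hdif x hx' k hk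
          rwa [dif, act, comb_two_pow] at this
        rcases h _ hxc with h1 | (h1 | h1 | h1)
        · simp [hskip] at h1
        · exfalso
          have h8 : (spanL (extB (code x) B)).toFinset ⊆ X := fun s hs =>
            spanL_subset X h0 hx _ hB' s (List.mem_toFinset.1 hs)
          have := Finset.card_le_card h8
          rw [List.toFinset_card_of_nodup (nodup_spanL _ h1.2), length_spanL, hX] at this
          have := (Nat.pow_le_pow_right (show 0 < 2 by norm_num) h1.1).trans this
          norm_num at this
        · omega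
        · exact ih _ _ _ h1 hN' hB'
  exact key _ _ _ _ searchSix_start (Node.start hT hsq) (by simp)

end CfsgLib.J4Ten
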