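import Cfsg.Agent.J4Ten.Orbit

/-!
Fusion of the standard subgroup: the orbits of length 155 and 868 of its normaliser.
-/

set_option autoImplicit false
set_option maxRecDepth 100000
set_option linter.style.haveILetI false
set_option linter.unusedSectionVars false

namespace CfsgLib.J4Ten

open Cfsg CfsgLib.Golay CfsgLib.Golay.SylowCert CfsgLib.J4Eleven Subgroup MulAction
open scoped Pointwise

attribute [local instance] Classical.propDecidable

variable {G : Type*} [Group G] [Finite G] {z : G} {V : Subgroup G} (X : Ctx z V)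

/-- The fixed positions of a code, as a bit set. -/
def fixMask (f : ℕ) : ℕ :=
  (List.range 24).foldl (fun m i => if get f i == i then m ||| (1 <<< i) else m) 0

theorem fixMask_spec : (invs.all fun f => fpfB f ||
    ((word (fixMask f % 4096) == fixMask f) && (wt 24 (fixMask f) == 8) &&
      (List.range 24).all fun i => !(fixMask f).testBit i || get f i == i)) = true := by decide +kernel

/-- An involution of the Mathieu group with a fixed point is conjugate into the pointwise stabiliser. -/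
theorem exists_conj_fel {σ : ↥M24} (h2 : σ * σ = 1) (h1 : σ ≠ 1) {p : GolayPt}
    (hp : (σ : Equiv.Perm GolayPt) p = p) : ∃ (g : ↥M24) (j : Fin 16), j ≠ 0 ∧ g * σ * g⁻¹ = fel j := by
  obtain ⟨g0, hg0⟩ := exists_into_sylT (D := zpowers σ) (by
    refine IsPGroup.of_card (n := 1) ?_
    rw [Nat.card_zpowers, pow_one, orderOf_eq_prime (by rw [pow_two]; exact h2) h1])
  set τ := g0 * σ * g0⁻¹
  have hτT : (τ : Equiv.Perm GolayPt) ∈ sylT := hg0 σ (mem_zpowers σ)
  have hτ2 : τ * τ = 1 := by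
    show g0 * σ * g0⁻¹ * (g0 * σ * g0⁻¹) = 1
    rw [J4Eleven.conj_mul, h2, mul_one, mul_inv_cancel]
  have hτ1 : τ ≠ 1 := fun e => h1 (conj_eq_one_iff.1 e)
  have hinv := code_mem_invs hτT (congrArg Subtype.val hτ2) fun e => hτ1 (Subtype.ext e)
  have h := List.all_eq_true.1 fixMask_spec _ hinv
  simp only [Bool.or_eq_true, Bool.and_eq_true, beq_iff_eq] at h
  obtain ⟨⟨hw, h8⟩, hfix⟩ := h.resolve_left (fun hf => by
    simp only [fpfB, List.all_eq_true, List.mem_range, bne_iff_ne] at hf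
    refine hf (idx ((g0 : Equiv.Perm GolayPt) p)) (idx_lt _) ?_
    rw [get_code _ (idx_lt _), pt_idx]
    show idx ((g0 : Equiv.Perm GolayPt) ((σ : Equiv.Perm GolayPt) ((g0 : Equiv.Perm GolayPt)⁻¹ ((g0 : Equiv.Perm GolayPt) p)))) = _
    simp [hp])
  have ho : pts (fixMask (code (τ : Equiv.Perm GolayPt))) ∈ octads :=
    (mem_octads_iff _).2 ⟨_, Nat.mod_lt _ (by norm_num), (congrArg (wt 24) hw).trans h8, (congrArg pts hw).symm⟩
  have hpt : ∀ q ∈ pts (fixMask (code (τ : Equiv.Perm GolayPt))), (τ : Equiv.Perm GolayPt) q = q := by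
    intro q hq
    simp only [pts, Finset.mem_filter, Finset.mem_univ, true_and] at hq
    have := List.all_eq_true.1 hfix (idx q) (List.mem_range.2 (idx_lt q))
    simp only [hq, Bool.not_true, Bool.false_or, beq_iff_eq] at this
    rw [get_code _ (idx_lt q), pt_idx] at this
    exact idx_injective this
  obtain ⟨g1, hg1⟩ := octad_transitive ho octPts_mem
  obtain ⟨j, hj⟩ := exists_fel (σ := g1 * τ * g1⁻¹) fun q hq => by
    rw [← hg1, smul_finset_eq_image, Finset.mem_image] at hq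
    obtain ⟨r, hr, rfl⟩ := hq
    show (g1 : Equiv.Perm GolayPt) ((τ : Equiv.Perm GolayPt) ((g1 : Equiv.Perm GolayPt)⁻¹ ((g1 : Equiv.Perm GolayPt) r))) = _
    simp [hpt r hr]
  refine ⟨g1 * g0, j, fun e => hτ1 ?_, ?_⟩
  · rw [e, fel_zero] at hj
    exact conj_eq_one_iff.1 hj.symm
  · rw [hj]
    show g1 * g0 * σ * (g1 * g0)⁻¹ = g1 * (g0 * σ * g0⁻¹) * g1⁻¹
    group

theorem fPart_lt {n : ℕ} (hn : n < 1024) : n < 64 ↔ fPart n = 0 := by
  constructor
  · intro h
    refine Fin.ext ?_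
    show (n >>> 6) % 16 = 0
    rw [Nat.shiftRight_eq_div_pow]
    omega
  · intro h
    have h' : (n >>> 6) % 16 = 0 := congrArg Fin.val h
    rw [Nat.shiftRight_eq_div_pow] at h'
    omega

theorem Ctx.alpha_mem_V {n : ℕ} (hn : n < 1024) : X.alpha n ∈ V ↔ n < 64 := by
  rw [fPart_lt hn]
  constructor
  · intro h
    have h2 := (X.L.ker ⟨X.alpha n, X.alpha_mem n⟩).2 h
    rw [show X.φ ⟨X.alpha n, X.alpha_mem n⟩ = fel (fPart n) from X.φ_elem _ _] at h2
    exact fel_injective (h2.trans fel_zero.symm)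
  · intro h
    rw [Ctx.alpha, h, fel_zero, Ctx.elem, map_one, mul_one]
    exact X.nu_mem _

theorem Ctx.alpha_low {n : ℕ} (hn : n < 64) : X.alpha n = X.nu (comb wB n) := by
  rw [Ctx.alpha, (fPart_lt (by omega)).1 hn, fel_zero, Ctx.elem, map_one, mul_one]

/-- An involution of the normaliser of `V` inducing one with a fixed point is conjugate into the
standard subgroup. -/
theorem Ctx.exists_conj_ten {e : G} (he : e ∈ normalizer (V : Set G)) (h2 : e * e = 1) (heV : e ∉ V)
    {p : GolayPt} (hp : ((X.φ ⟨e, he⟩ : ↥M24) : Equiv.Perm GolayPt) p = p) :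
    ∃ n < 1024, 64 ≤ n ∧ IsConj e (X.alpha n) := by
  obtain ⟨g, j, hj0, hg⟩ := exists_conj_fel (σ := X.φ ⟨e, he⟩)
    (by rw [← map_mul, show (⟨e, he⟩ : normalizer (V : Set G)) * ⟨e, he⟩ = 1 from Subtype.ext h2, map_one])
    (fun h => heV ((X.L.ker _).1 h)) hp
  set e' := X.κ g * e * (X.κ g)⁻¹
  have he' : e' ∈ normalizer (V : Set G) := mul_mem (mul_mem (X.κN g) he) (inv_mem (X.κN g))
  have hφ : X.φ ⟨e', he'⟩ = fel j := by
    rw [show (⟨e', he'⟩ : normalizer (V : Set G)) = ⟨X.κ g, X.κN g⟩ * ⟨e, he⟩ * ⟨X.κ g, X.κN g⟩⁻¹ from rfl,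
      map_mul, map_mul, map_inv, X.κφ, hg]
  obtain ⟨s, hs, hes⟩ := X.exists_elem he'
  rw [hφ] at hes
  have hfix : act (fixL.getD (j : ℕ) 0) s = s := by
    have h : e' * e' = 1 := by rw [J4Eleven.conj_mul, h2, mul_one, mul_inv_cancel]
    rw [hes, X.elem_mul hs, code_fel, ← X.elem_one] at h
    have h' := (X.elem_inj (Nat.xor_lt_two_pow (n := 11) hs (act_lt _ _)) (by norm_num) h).1
    have := congrArg (s ^^^ ·) h'
    simpa [← Nat.xor_assoc] using this
  obtain ⟨u, hu, hW⟩ : ∃ u < 2048, s ^^^ dif (fixL.getD (j : ℕ) 0) u ∈ wImg := by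
    rcases lift_parts.2.1 j j.2 (fun h => hj0 (Fin.ext h)) s hs hfix with h | h
    · exact ⟨0, by norm_num, by simpa [dif, act_zero] using h⟩
    · exact ⟨_, lift_parts.2.2.1 j j.2, h⟩
  obtain ⟨a, ha, hae⟩ := mem_wImg.1 hW
  have hn : a + 64 * (j : ℕ) < 1024 := by have := j.2; omega
  refine ⟨a + 64 * (j : ℕ), hn, ?_, ?_⟩
  · have : 0 < (j : ℕ) := Nat.pos_of_ne_zero fun h => hj0 (Fin.ext h)
    omega
  · have hfp : fPart (a + 64 * (j : ℕ)) = j := Fin.ext (by
      show ((a + 64 * (j : ℕ)) >>> 6) % 16 = j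
      rw [Nat.shiftRight_eq_div_pow]
      have := j.2
      omega)
    have hc : comb wB (a + 64 * (j : ℕ)) = comb wB a := by
      rw [comb_mod wB (a + _), comb_mod wB a, w_parts.2.1]
      congr 1
      norm_num
    rw [isConj_iff]
    refine ⟨X.nu u * X.κ g, ?_⟩
    rw [Ctx.alpha, hc, hae, hfp, ← code_fel j, ← X.nu_conj_elem hu, ← hes]
    show X.nu u * X.κ g * e * (X.nu u * X.κ g)⁻¹ = X.nu u * (X.κ g * e * (X.κ g)⁻¹) * (X.nu u)⁻¹
    group

theorem index_conj_stabilizer (K : Subgroup G) (a : G) :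
    (K ⊓ centralizer ({a} : Set G)).relIndex K = Set.ncard {b | ∃ k ∈ K, k * a * k⁻¹ = b} := by
  letI : MulAction K G := MulAction.compHom G (MulAut.conj.comp K.subtype)
  have hst : MulAction.stabilizer K a = (K ⊓ centralizer ({a} : Set G)).subgroupOf K := by
    ext k
    rw [mem_stabilizer_iff, mem_subgroupOf, mem_inf, mem_centralizer_singleton_iff]
    show (k : G) * a * (k : G)⁻¹ = a ↔ _
    rw [mul_inv_eq_iff_eq_mul]
    exact ⟨fun h => ⟨k.2, h⟩, fun h => h.2⟩
  have horb : MulAction.orbit K a = {b | ∃ k ∈ K, k * a * k⁻¹ = b} := by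
    ext b
    exact ⟨fun ⟨k, e⟩ => ⟨k, k.2, e⟩, fun ⟨k, hk, e⟩ => ⟨⟨k, hk⟩, e⟩⟩
  rw [Subgroup.relIndex, ← hst, MulAction.index_stabilizer, horb]

theorem card_conj_orbit (K : Subgroup G) (a : G) :
    Nat.card ↥(K ⊓ centralizer ({a} : Set G)) * Set.ncard {b | ∃ k ∈ K, k * a * k⁻¹ = b} = Nat.card K := by
  rw [← index_conj_stabilizer K a, Subgroup.relIndex,
    ← Nat.card_congr (subgroupOfEquivOfLe (inf_le_left : K ⊓ centralizer ({a} : Set G) ≤ K)).toEquiv]
  exact Subgroup.card_mul_index _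

/-- A conjugate of an element of `V` outside the class of `z`. -/
def Ctx.TT (_X : Ctx z V) (g : G) : Prop := ∃ t ∈ nS z V, IsConj t g

theorem Ctx.not_z_of_TT {g : G} (h : X.TT g) : ¬ IsConj z g ∧ g ≠ 1 := by
  obtain ⟨t, ht, hc⟩ := h
  refine ⟨fun hz => (mem_nS.1 ht).2.2 (hz.trans hc.symm), ?_⟩
  rintro rfl
  exact (mem_nS.1 ht).2.1 (isConj_one_left.1 hc)

/-- In a normal subgroup of the centraliser of `z` with the properties of its core, some fused element
induces an involution with a fixed point. -/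
theorem Ctx.exists_TT_outside {E : Subgroup G} (hEN : E ≤ normalizer (V : Set G))
    (hEz : centralizer ({z} : Set G) ≤ normalizer (E : Set G)) (hsq : ∀ e ∈ E, e * e ∈ V)
    (hc : Nat.card E = 2 ^ 13) (hcV : Nat.card ↥(E ⊓ V) = 128)
    (hcom : ∀ v ∈ V, ∀ e ∈ E, e * v * e⁻¹ * v ∈ E)
    (hH : 2 ^ 21 * 10395 ≤ Nat.card ↥(centralizer ({z} : Set G))) :
    ∃ n < 1024, 64 ≤ n ∧ X.TT (X.alpha n) := by
  let f : E →* ↥M24 := X.φ.comp (Subgroup.inclusion hEN)
  have hfsq : ∀ e : E, f e * f e = 1 := fun e => by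
    rw [← map_mul]; exact (X.L.ker _).2 (hsq _ e.2)
  have hker : f.ker = (E ⊓ V).subgroupOf E := Subgroup.ext fun e => by
    rw [MonoidHom.mem_ker, mem_subgroupOf, mem_inf]
    exact (X.L.ker _).trans ⟨fun h => ⟨e.2, h⟩, fun h => h.2⟩
  have hD64 : Nat.card f.range = 64 := by
    have h := f.ker.card_mul_index
    rw [Subgroup.index_ker, hker, Nat.card_congr (subgroupOfEquivOfLe inf_le_left).toEquiv, hcV, hc] at h
    exact Nat.eq_of_mul_eq_mul_left (by norm_num : 0 < 128) (h.trans (by norm_num))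
  have hp : IsPGroup 2 f.range := IsPGroup.of_card (n := 6) (by rw [hD64]; norm_num)
  obtain ⟨g, hg⟩ := exists_into_sylT hp
  set m0 := X.κ g
  let D1 : Subgroup (Equiv.Perm GolayPt) := (f.range.map (MulAut.conj g).toMonoidHom).map M24.subtype
  have hD1 : Nat.card D1 = 64 := by
    rw [card_map_of_injective (Subgroup.subtype_injective _), card_map_of_injective (MulEquiv.injective _), hD64]
  have hmem1 : ∀ x ∈ D1, ∃ e : E, x = ((g * f e * g⁻¹ : ↥M24) : Equiv.Perm GolayPt) := by
    rintro _ ⟨_, ⟨_, ⟨e, rfl⟩, rfl⟩, rfl⟩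
    exact ⟨e, rfl⟩
  let Xs : Finset ℕ := (Finset.range 2048).filter fun s => m0⁻¹ * X.nu s * m0 ∈ E
  have hXs : ∀ s, s ∈ Xs ↔ s < 2048 ∧ m0⁻¹ * X.nu s * m0 ∈ E := fun s => by simp [Xs]
  have hm0 : m0 ∈ normalizer (V : Set G) := X.κN g
  have hpullV : ∀ s, m0⁻¹ * X.nu s * m0 ∈ V := fun s => by
    simpa using (mem_normalizer_iff.1 (inv_mem hm0) _).1 (X.nu_mem s)
  have hXcard : Xs.card = 128 := by
    let h : Xs → ↥(E ⊓ V) := fun s => ⟨m0⁻¹ * X.nu s * m0, mem_inf.2 ⟨((hXs _).1 s.2).2, hpullV _⟩⟩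
    have hb : Function.Bijective h := by
      refine ⟨fun s t e => Subtype.ext (X.nu_inj ((hXs _).1 s.2).1 ((hXs _).1 t.2).1
        (mul_left_cancel (mul_right_cancel (congrArg Subtype.val e)))), fun v => ?_⟩
      obtain ⟨s, hs, e⟩ := X.nu_surj ((mem_normalizer_iff.1 hm0 _).1 (mem_inf.1 v.2).2)
      have e' : m0⁻¹ * X.nu s * m0 = (v : G) := by rw [e]; group
      exact ⟨⟨s, (hXs s).2 ⟨hs, e'.symm ▸ (mem_inf.1 v.2).1⟩⟩, Subtype.ext e'⟩
    rw [← hcV, ← Nat.card_eq_of_bijective h hb, Nat.card_eq_fintype_card, Fintype.card_coe]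
  have hineq := count_six (D := D1)
    (by rintro x hx; obtain ⟨e, rfl⟩ := hmem1 x hx; exact hg _ ⟨e, rfl⟩)
    (by
      intro x hx; obtain ⟨e, rfl⟩ := hmem1 x hx
      rw [← Subgroup.coe_mul, J4Eleven.conj_mul, hfsq, mul_one, mul_inv_cancel, Subgroup.coe_one])
    hD1 Xs hXcard ((hXs 0).2 ⟨by norm_num, by simp [X.nu_zero]⟩)
    (fun a ha b hb => (hXs _).2 ⟨Nat.xor_lt_two_pow (n := 11) ((hXs a).1 ha).1 ((hXs b).1 hb).1, by
      have := mul_mem ((hXs a).1 ha).2 ((hXs b).1 hb).2
      rw [X.nu_xor]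
      simpa [mul_assoc] using this⟩)
    (by
      intro x hx k hk; obtain ⟨e, rfl⟩ := hmem1 x hx
      refine (hXs _).2 ⟨dif_lt _ (Nat.pow_lt_pow_right (by norm_num) hk), ?_⟩
      have hn : X.φ (⟨m0, hm0⟩ * ⟨e, hEN e.2⟩ * ⟨m0, hm0⟩⁻¹) = g * f e * g⁻¹ := by
        rw [map_mul, map_mul, map_inv, X.κφ]; rfl
      have h2 := X.conj_nu (⟨m0, hm0⟩ * ⟨e, hEN e.2⟩ * ⟨m0, hm0⟩⁻¹)
        (Nat.pow_lt_pow_right (a := 2) (m := k) (n := 11) (by norm_num) hk)
      rw [hn] at h2
      rw [dif, X.nu_xor, ← h2]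
      have h3 := hcom _ (hpullV (2 ^ k)) e e.2
      convert h3 using 1
      show m0⁻¹ * (m0 * e * m0⁻¹ * X.nu (2 ^ k) * (m0 * e * m0⁻¹)⁻¹ * X.nu (2 ^ k)) * m0 = _
      group)
  -- the numbers
  set dS : Finset G := (nS z V).filter fun t => t ∈ E
  set b := Set.ncard {x : ↥M24 | x ∈ f.range ∧ ∀ p, (x : Equiv.Perm GolayPt) p ≠ p}
  have hm : (Xs.filter fun s => isDuad s = true).card = dS.card := by
    refine Finset.card_bij (fun s _ => m0⁻¹ * X.nu s * m0) ?_ ?_ ?_
    · intro s hs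
      rw [Finset.mem_filter, hXs] at hs
      refine Finset.mem_filter.2 ⟨?_, hs.1.2⟩
      rw [← X.C.nS_map hm0, show m0 * (m0⁻¹ * X.nu s * m0) * m0⁻¹ = X.nu s by group]
      exact (X.nu_mem_nS hs.1.1).2 hs.2
    · intro s hs t ht e
      rw [Finset.mem_filter, hXs] at hs ht
      exact X.nu_inj hs.1.1 ht.1.1 (mul_left_cancel (mul_right_cancel e))
    · intro t ht
      rw [Finset.mem_filter] at ht
      have hN := (X.C.nS_map hm0).2 ht.1
      obtain ⟨s, hs, e⟩ := X.nu_surj (mem_nS.1 hN).1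
      have e' : m0⁻¹ * X.nu s * m0 = t := by rw [e]; group
      exact ⟨s, Finset.mem_filter.2 ⟨(hXs s).2 ⟨hs, e'.symm ▸ ht.2⟩, (X.nu_mem_nS hs).1 (e ▸ hN)⟩, e'⟩
  have hb : b ≤ Set.ncard {x : Equiv.Perm GolayPt | x ∈ D1 ∧ ∀ p, x p ≠ p} := by
    refine Set.ncard_le_ncard_of_injOn (fun x => ((g * x * g⁻¹ : ↥M24) : Equiv.Perm GolayPt)) ?_
      (fun x _ y _ e => mul_left_cancel (mul_right_cancel (Subtype.ext e))) (Set.toFinite _)
    rintro x ⟨hx, hmv⟩
    refine ⟨⟨_, ⟨x, hx, rfl⟩, rfl⟩, fun p hp => hmv ((g : Equiv.Perm GolayPt)⁻¹ p) ?_⟩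
    have hp' : (g : Equiv.Perm GolayPt) ((x : Equiv.Perm GolayPt) ((g : Equiv.Perm GolayPt)⁻¹ p)) = p := hp
    exact (Equiv.Perm.inv_eq_iff_eq.2 hp'.symm).symm
  rw [hm] at hineq
  -- the fused elements
  by_contra hne
  push Not at hne
  set H := centralizer ({z} : Set G)
  set NH := (normalizer (V : Set G) ⊓ H).subgroupOf H
  have hidx : 77 ≤ Nat.card (H ⧸ NH) := by
    have h1 := card_conj_orbit (normalizer (V : Set G)) z
    have e : {c | ∃ k ∈ normalizer (V : Set G), k * z * k⁻¹ = c} = ↑((elems V).filter fun c => IsConj z c) := by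
      ext c
      rw [Finset.mem_coe, Finset.mem_filter, mem_elems]
      constructor
      · rintro ⟨k, hk, rfl⟩
        exact ⟨(mem_normalizer_iff.1 hk _).1 X.C.z_mem, isConj_iff.2 ⟨k, rfl⟩⟩
      · rintro ⟨hc, hc'⟩
        exact X.C.z_move hc hc'
    have hN : Nat.card (normalizer (V : Set G)) = 2 ^ 21 * (135 * 1771) := by
      have h := X.φ.ker.card_mul_index
      rw [Subgroup.index_ker, MonoidHom.range_eq_top.2 X.L.surj, card_top, Golay.card_M24,
        show X.φ.ker = V.subgroupOf (normalizer (V : Set G)) from Subgroup.ext fun m => by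
          rw [MonoidHom.mem_ker, X.L.ker, mem_subgroupOf],
        Nat.card_congr (subgroupOfEquivOfLe le_normalizer).toEquiv, X.C.card] at h
      rw [← h]; norm_num
    rw [e, Set.ncard_coe_finset, X.C.count, hN] at h1
    have h2 := Subgroup.card_eq_card_quotient_mul_card_subgroup NH
    rw [Nat.card_congr (subgroupOfEquivOfLe (inf_le_right : normalizer (V : Set G) ⊓ H ≤ H)).toEquiv] at h2
    have h3 : Nat.card ↥(normalizer (V : Set G) ⊓ H) = 2 ^ 21 * 135 :=
      Nat.eq_of_mul_eq_mul_right (by norm_num : 0 < 1771) (h1.trans (by ring))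
    rw [h3] at h2
    rw [h2] at hH
    omega
  haveI : Fintype (H ⧸ NH) := Fintype.ofFinite _
  set S : Finset G := (Finset.univ ×ˢ dS).image fun p : (H ⧸ NH) × G => (p.1.out : G) * p.2 * (p.1.out : G)⁻¹
  have hdS : ∀ t ∈ dS, t ∈ nS z V ∧ t ∈ E := fun t ht => Finset.mem_filter.1 ht
  have hScard : 77 * dS.card ≤ S.card := by
    rw [Finset.card_image_of_injOn, Finset.card_product, Finset.card_univ, ← Nat.card_eq_fintype_card]
    · exact Nat.mul_le_mul_right _ hidx
    rintro ⟨q, x⟩ hqx ⟨q', x'⟩ hqx' e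
    rw [Finset.mem_coe, Finset.mem_product] at hqx hqx'
    simp only at e hqx hqx'
    have hx := (hdS x hqx.2).1
    have hx' := (hdS x' hqx'.2).1
    set k : G := (q'.out : G)⁻¹ * (q.out : G)
    have hk : k * x * k⁻¹ = x' := by
      simp only [k]
      calc (q'.out : G)⁻¹ * (q.out : G) * x * ((q'.out : G)⁻¹ * (q.out : G))⁻¹
          = (q'.out : G)⁻¹ * ((q.out : G) * x * (q.out : G)⁻¹) * (q'.out : G) := by group
        _ = x' := by rw [e]; group
    have hkV : k ∈ normalizer (V : Set G) := by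
      refine map_conj_mem (X.C.eq_of_le_normalizer ?_ ?_ ?_)
      · refine le_trans ?_ (X.L.centralizer_le X.C X.loc hx')
        rintro _ ⟨v, hv, rfl⟩
        rw [← hk]
        exact conj_mem_centralizer (X.C.le_centralizer (mem_nS.1 hx).1 hv)
      · rintro _ ⟨v, hv, rfl⟩; rw [← map_mul, X.C.sq v hv, map_one]
      · rw [card_map_of_injective (MulEquiv.injective _), X.C.card]
    have hqq : q = q' := by
      rw [← QuotientGroup.out_eq' q, ← QuotientGroup.out_eq' q', eq_comm, QuotientGroup.eq]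
      show (q'.out : G)⁻¹ * (q.out : G) ∈ normalizer (V : Set G) ⊓ H
      exact mem_inf.2 ⟨hkV, mul_mem (inv_mem q'.out.2) q.out.2⟩
    subst hqq
    rw [show k = 1 by simp [k], one_mul, inv_one, mul_one] at hk
    rw [hk]
  have hSE : ∀ s ∈ S, s ∈ E ∧ X.TT s := by
    intro s hs
    obtain ⟨⟨q, x⟩, hqx, rfl⟩ := Finset.mem_image.1 hs
    rw [Finset.mem_product] at hqx
    exact ⟨(mem_normalizer_iff.1 (hEz q.out.2) x).1 (hdS x hqx.2).2, x, (hdS x hqx.2).1, isConj_iff.2 ⟨_, rfl⟩⟩
  have hin : (S.filter fun s => s ∈ V).card ≤ dS.card := Finset.card_le_card fun s hs => by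
    rw [Finset.mem_filter] at hs
    obtain ⟨h1, h2⟩ := X.not_z_of_TT (hSE s hs.1).2
    exact Finset.mem_filter.2 ⟨mem_nS.2 ⟨hs.2, h2, h1⟩, (hSE s hs.1).1⟩
  have hout : (S.filter fun s => s ∉ V).card ≤ 128 * b := by
    let F : G → ↥M24 := fun s => if h : s ∈ E then f ⟨s, h⟩ else 1
    calc (S.filter fun s => s ∉ V).card ≤ 128 * ((S.filter fun s => s ∉ V).image F).card := by
          refine Finset.card_le_mul_card_image _ 128 fun x hx => ?_
          obtain ⟨s0, hs0, rfl⟩ := Finset.mem_image.1 hx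
          refine (Finset.card_le_card_of_injOn (fun s => s0⁻¹ * s) (t := elems (E ⊓ V)) ?_
            (fun s _ t _ e => mul_left_cancel e)).trans (by rw [card_elems, hcV])
          intro s hs
          rw [Finset.mem_coe, Finset.mem_filter] at hs
          have hE0 := (hSE s0 (Finset.mem_filter.1 hs0).1).1
          have hE1 := (hSE s (Finset.mem_filter.1 hs.1).1).1
          have he : f ⟨s, hE1⟩ = f ⟨s0, hE0⟩ := by
            have := hs.2
            simp only [F, dif_pos hE1, dif_pos hE0] at this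
            exact this
          rw [Finset.mem_coe, mem_elems]
          refine mem_inf.2 ⟨mul_mem (inv_mem hE0) hE1, ?_⟩
          have hk : (⟨s0, hE0⟩ : E)⁻¹ * ⟨s, hE1⟩ ∈ f.ker := by
            rw [MonoidHom.mem_ker, map_mul, map_inv, he, inv_mul_cancel]
          rw [hker] at hk
          exact (mem_inf.1 hk).2
      _ ≤ 128 * b := by
          refine Nat.mul_le_mul_left _ ?_
          rw [← Set.ncard_coe_finset]
          refine Set.ncard_le_ncard ?_ (Set.toFinite _)
          intro x hx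
          obtain ⟨s, hs, rfl⟩ := Finset.mem_image.1 hx
          rw [Finset.mem_filter] at hs
          obtain ⟨hsE, hsT⟩ := hSE s hs.1
          simp only [F, dif_pos hsE]
          refine ⟨⟨_, rfl⟩, fun p hp => ?_⟩
          have hs2 : s * s = 1 := by
            obtain ⟨t, ht, hc⟩ := hsT
            obtain ⟨k, rfl⟩ := isConj_iff.1 hc
            rw [J4Eleven.conj_mul, X.C.sq t (mem_nS.1 ht).1, mul_one, mul_inv_cancel]
          obtain ⟨n, hn, h64, hconj⟩ := X.exists_conj_ten (hEN hsE) hs2 hs.2 hp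
          obtain ⟨t, ht, hc⟩ := hsT
          exact hne n hn h64 ⟨t, ht, hc.trans hconj⟩
  have hsplit := Finset.card_filter_add_card_filter_not (s := S) (fun s => s ∈ V)
  omega

/-! ### The orbits of the normaliser -/

theorem two_in_B : ((List.range 64).any fun a => orbitB.testBit a && orbitB.testBit (startA ^^^ a)) = true := by
  decide +kernel

theorem orbit_parts :
    (∀ n < 1024, orbitA.testBit n = true → n < 64 ∧ isDuad (comb wB n) = true) ∧
    (∀ n < 1024, orbitB.testBit n = true → n < 64 ∧ isDuad (comb wB n) = false ∧ n ≠ 0) ∧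
    (∀ n < 1024, n ≠ 0 → orbitA.testBit n = true ∨ orbitB.testBit n = true ∨
      (64 ≤ n ∧ (orbitC.testBit n = true ∨ orbitD.testBit n = true))) ∧
    (∀ n < 1024, orbitC.testBit n = true → 64 ≤ n ∧ orbitD.testBit n = false) ∧
    (∀ n < 1024, orbitD.testBit n = true → 64 ≤ n) := by
  have h' : ∀ n < 1024, classB n = true := fun n hn => List.all_eq_true.1 classB_all n (List.mem_range.2 hn)
  refine ⟨fun n hn a => ?_, fun n hn a => ?_, fun n hn h0 => ?_, fun n hn a => ?_, fun n hn a => ?_⟩ <;>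
    have h := h' n hn <;> clear h' <;> simp only [classB] at h <;> revert h <;>
    cases hA : orbitA.testBit n <;> cases hB : orbitB.testBit n <;> cases hC : orbitC.testBit n <;>
    cases hD : orbitD.testBit n <;> by_cases hz : n = 0 <;> simp_all

theorem orbit_cards :
    ((Finset.range 1024).filter fun n => orbitA.testBit n = true).card = 28 ∧
    ((Finset.range 1024).filter fun n => orbitB.testBit n = true).card = 35 ∧
    ((Finset.range 1024).filter fun n => orbitC.testBit n = true).card = 120 ∧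
    ((Finset.range 1024).filter fun n => orbitD.testBit n = true).card = 840 ∧
    orbitA.testBit startA = true ∧ orbitB.testBit startB = true ∧ orbitC.testBit startC = true ∧
    orbitD.testBit startD = true := by
  have key : ∀ O : ℕ, ((Finset.range 1024).filter fun n => O.testBit n = true).card =
      ((List.range 1024).filter fun n => O.testBit n).length := fun O => by
    rw [← List.toFinset_card_of_nodup (List.nodup_range.filter _), List.toFinset_filter, List.toFinset_range]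
  rw [key, key, key, key]
  exact ⟨orbit_lengths.1, orbit_lengths.2.1, orbit_lengths.2.2.1, orbit_lengths.2.2.2, orbit_starts.1,
    orbit_starts.2.1, orbit_starts.2.2.1, orbit_starts.2.2.2⟩

theorem start_lt : startA < 64 ∧ startB < 64 ∧ startC < 1024 ∧ startD < 1024 := by decide +kernel

theorem Ctx.rel_walk {s : ℕ} {w : List (ℕ × ℕ)} {O : ℕ} (h : runWalk w (1 <<< s) = some O) {a b : ℕ}
    (ha : O.testBit a = true) (hb : O.testBit b = true) : X.Rel (X.alpha a) (X.alpha b) := by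
  have key := X.runWalk_sound (X.alpha s) w _ O h fun n hn => by
    rw [Nat.one_shiftLeft, Nat.testBit_two_pow, decide_eq_true_eq] at hn
    exact hn ▸ ⟨1, one_mem _, by simp⟩
  exact X.rel_trans (X.rel_symm (key a ha)) (key b hb)

/-- The 868 elements. -/
def inT (n : ℕ) : Bool := orbitA.testBit n || orbitD.testBit n

/-- The 155 elements. -/
def inS (n : ℕ) : Bool := orbitB.testBit n || orbitC.testBit n

/-- The facts about the normaliser used afterwards. -/
structure Ctx.Fused : Prop where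
  cardN : Nat.card (normalizer (X.ten : Set G)) = 31 * (2 ^ 10 * 322560)
  map_T : ∀ g ∈ normalizer (X.ten : Set G), ∀ a < 1024, ∀ b < 1024, g * X.alpha a * g⁻¹ = X.alpha b →
    inT a = inT b ∧ inS a = inS b
  move_T : ∀ a < 1024, ∀ b < 1024, inT a = true → inT b = true →
    ∃ g ∈ normalizer (X.ten : Set G), g * X.alpha a * g⁻¹ = X.alpha b
  move_S : ∀ a < 1024, ∀ b < 1024, inS a = true → inS b = true →
    ∃ g ∈ normalizer (X.ten : Set G), g * X.alpha a * g⁻¹ = X.alpha b

theorem Ctx.fused (hex : ∃ n < 1024, 64 ≤ n ∧ X.TT (X.alpha n)) : X.Fused := by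
  obtain ⟨hA, hB, hall, hC, hD⟩ := orbit_parts
  obtain ⟨cA, cB, cC, cD, sA, sB, sC, sD⟩ := orbit_cards
  obtain ⟨lA, lB, lC, lD⟩ := start_lt
  obtain ⟨wA, wB', wC, wD⟩ := walks
  set t1 := X.alpha startA with ht1def
  set N0 := normalizer (X.ten : Set G)
  have hloc : X.loc2 ≤ N0 := inf_le_right
  have ht1 : t1 ∈ nS z V := by
    rw [ht1def, X.alpha_low lA]
    exact (X.nu_mem_nS (wB_lt _)).2 (hA _ (by omega) sA).2
  have hnSA : ∀ n < 1024, X.alpha n ∈ nS z V → orbitA.testBit n = true := by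
    intro n hn h
    have h64 := (X.alpha_mem_V hn).1 (mem_nS.1 h).1
    rw [X.alpha_low h64] at h
    have hd := (X.nu_mem_nS (wB_lt _)).1 h
    rcases hall n hn (fun e => by rw [e, comb_zero, X.nu_zero] at h; exact (mem_nS.1 h).2.1 rfl) with h' | h' | h'
    · exact h'
    · rw [(hB n hn h').2.1] at hd; simp at hd
    · omega
  have hfuse : ∀ b < 1024, X.TT (X.alpha b) → ∃ g ∈ N0, g * t1 * g⁻¹ = X.alpha b := by
    rintro b hb ⟨t, ht, hc⟩
    obtain ⟨k, hk⟩ := isConj_iff.1 ((X.C.other t1 ht1 t ht).trans hc)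
    set A := X.ten.map (MulAut.conj k⁻¹).toMonoidHom
    have hAN : A ≤ normalizer (V : Set G) := by
      refine le_trans ?_ (X.L.centralizer_le X.C X.loc ht1)
      rintro _ ⟨a, ha, rfl⟩
      have e : t1 = k⁻¹ * X.alpha b * k⁻¹⁻¹ := by rw [← hk]; group
      rw [e]
      exact conj_mem_centralizer (mem_centralizer_singleton_iff.2 (X.ten_comm ha ⟨b, hb, rfl⟩))
    obtain ⟨m, hm, hmap⟩ := X.classify hAN (by rintro _ ⟨a, ha, rfl⟩; rw [← map_mul, X.ten_sq ha, map_one])
      (by rw [card_map_of_injective (MulEquiv.injective _), X.card_ten]) (by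
        intro x hx
        refine ⟨k * x * k⁻¹, ?_, by simp [mul_assoc]⟩
        show k * x * k⁻¹ ∈ X.ten
        rw [← X.centralizer_ten, mem_centralizer_iff]
        intro a ha
        have := mem_centralizer_iff.1 hx _ ⟨a, ha, rfl⟩
        change k⁻¹ * a * k⁻¹⁻¹ * x = x * (k⁻¹ * a * k⁻¹⁻¹) at this
        rw [inv_inv] at this
        calc a * (k * x * k⁻¹) = k * (k⁻¹ * a * k * x) * k⁻¹ := by group
          _ = k * x * k⁻¹ * a := by rw [this]; group)
    have hkm : k * m ∈ N0 := by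
      refine map_conj_mem ?_
      rw [show (MulAut.conj (k * m)).toMonoidHom = (MulAut.conj k).toMonoidHom.comp (MulAut.conj m).toMonoidHom from
          MonoidHom.ext fun x => by simp [mul_assoc], ← Subgroup.map_map, hmap, Subgroup.map_map]
      conv_rhs => rw [← Subgroup.map_id X.ten]
      congr 1
      exact MonoidHom.ext fun x => by simp [mul_assoc]
    have hmem : t1 ∈ A := ⟨X.alpha b, ⟨b, hb, rfl⟩, by show k⁻¹ * X.alpha b * k⁻¹⁻¹ = t1; rw [← hk]; group⟩
    rw [← hmap] at hmem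
    obtain ⟨_, ⟨a, ha, rfl⟩, hae⟩ := hmem
    change m * X.alpha a * m⁻¹ = t1 at hae
    have haA := hnSA a ha ((X.C.nS_map hm).1 (hae.symm ▸ ht1))
    obtain ⟨x, hx, hxe⟩ := X.rel_walk wA sA haA
    refine ⟨k * m * x, mul_mem hkm (hloc hx), ?_⟩
    rw [← hk]
    calc k * m * x * t1 * (k * m * x)⁻¹ = k * (m * (x * t1 * x⁻¹) * m⁻¹) * k⁻¹ := by group
      _ = k * t1 * k⁻¹ := by rw [hxe, hae]
  -- counting
  have hTT : ∀ {a b : G}, IsConj a b → X.TT a → X.TT b := fun h ⟨t, ht, hc⟩ => ⟨t, ht, hc.trans h⟩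
  have hrelTT : ∀ {a b : G}, X.Rel a b → X.TT a → X.TT b := fun ⟨x, _, e⟩ => hTT (isConj_iff.2 ⟨x, e⟩)
  let tnum : Finset ℕ := (Finset.range 1024).filter fun n => X.TT (X.alpha n)
  have horb : {c | ∃ g ∈ N0, g * t1 * g⁻¹ = c} = X.alpha '' (tnum : Set ℕ) := by
    ext c
    constructor
    · rintro ⟨g, hg, rfl⟩
      obtain ⟨n, hn, e⟩ := (mem_normalizer_iff.1 hg t1).1 ⟨startA, by omega, rfl⟩
      exact ⟨n, Finset.mem_filter.2 ⟨Finset.mem_range.2 hn,
        e.symm ▸ hTT (isConj_iff.2 ⟨g, rfl⟩) ⟨t1, ht1, IsConj.refl _⟩⟩, e⟩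
    · rintro ⟨n, hn, rfl⟩
      obtain ⟨h1, h2⟩ := Finset.mem_filter.1 hn
      exact hfuse n (Finset.mem_range.1 h1) h2
  have hinj : ∀ S : Finset ℕ, S ⊆ Finset.range 1024 → Set.ncard (X.alpha '' (S : Set ℕ)) = S.card := fun S hS => by
    rw [Set.InjOn.ncard_image (fun a ha b hb e => X.alpha_inj (Finset.mem_range.1 (hS ha))
      (Finset.mem_range.1 (hS hb)) e), Set.ncard_coe_finset]
  have horb2 : {c | ∃ g ∈ X.loc2, g * t1 * g⁻¹ = c} =
      X.alpha '' (((Finset.range 1024).filter fun n => orbitA.testBit n = true : Finset ℕ) : Set ℕ) := by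
    ext c
    constructor
    · rintro ⟨g, hg, rfl⟩
      obtain ⟨n, hn, e⟩ := (mem_normalizer_iff.1 (mem_inf.1 hg).2 t1).1 ⟨startA, by omega, rfl⟩
      exact ⟨n, Finset.mem_filter.2 ⟨Finset.mem_range.2 hn,
        hnSA n hn (e.symm ▸ (X.C.nS_map (mem_inf.1 hg).1).2 ht1)⟩, e⟩
    · rintro ⟨n, hn, rfl⟩
      exact X.rel_walk wA sA (Finset.mem_filter.1 hn).2
  have hC1 : N0 ⊓ centralizer ({t1} : Set G) = X.loc2 ⊓ centralizer ({t1} : Set G) := by
    refine le_antisymm (fun g hg => ?_) (inf_le_inf_right _ hloc)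
    exact mem_inf.2 ⟨mem_inf.2 ⟨X.L.centralizer_le X.C X.loc ht1 (mem_inf.1 hg).2, (mem_inf.1 hg).1⟩, (mem_inf.1 hg).2⟩
  have k1 := card_conj_orbit N0 t1
  have k2 := card_conj_orbit X.loc2 t1
  rw [horb, hinj _ (Finset.filter_subset _ _), hC1] at k1
  rw [horb2, hinj _ (Finset.filter_subset _ _), cA, X.card_loc2] at k2
  obtain ⟨q, hq⟩ := Subgroup.card_dvd_of_le hloc
  rw [X.card_loc2] at hq
  have htq : tnum.card = 28 * q := by
    refine Nat.eq_of_mul_eq_mul_left (Nat.card_pos (α := ↥(X.loc2 ⊓ centralizer ({t1} : Set G)))) ?_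
    rw [k1, hq, ← k2]
    ring
  have hsub : (Finset.range 1024).filter (fun n => orbitA.testBit n = true) ⊆ tnum := fun n hn => by
    obtain ⟨h1, h2⟩ := Finset.mem_filter.1 hn
    exact Finset.mem_filter.2 ⟨h1, hrelTT (X.rel_walk wA sA h2) ⟨t1, ht1, IsConj.refl _⟩⟩
  set εC := X.TT (X.alpha startC)
  set εD := X.TT (X.alpha startD)
  have htn : ∀ n < 1024, (X.TT (X.alpha n) ↔ orbitA.testBit n = true ∨ (εC ∧ orbitC.testBit n = true) ∨
      (εD ∧ orbitD.testBit n = true)) := by
    intro n hn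
    constructor
    · intro h
      rcases hall n hn (fun e => (X.not_z_of_TT h).2 (by rw [e, X.alpha_zero])) with h' | h' | ⟨-, h' | h'⟩
      · exact Or.inl h'
      · obtain ⟨h64, hd, h0⟩ := hB n hn h'
        refine absurd ((X.isConj_nu (wB_lt n) ?_).2 hd) (X.alpha_low h64 ▸ (X.not_z_of_TT h).1)
        intro e
        exact (X.not_z_of_TT h).2 (by rw [X.alpha_low h64, e, X.nu_zero])
      · exact Or.inr (Or.inl ⟨hrelTT (X.rel_walk wC h' sC) h, h'⟩)
      · exact Or.inr (Or.inr ⟨hrelTT (X.rel_walk wD h' sD) h, h'⟩)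
    · rintro (h | ⟨he, h⟩ | ⟨he, h⟩)
      · exact (Finset.mem_filter.1 (hsub (Finset.mem_filter.2 ⟨Finset.mem_range.2 hn, h⟩))).2
      · exact hrelTT (X.rel_walk wC sC h) he
      · exact hrelTT (X.rel_walk wD sD h) he
  have hcount : tnum.card = 28 + (if εC then 120 else 0) + (if εD then 840 else 0) := by
    have hdis1 : ∀ n < 1024, orbitA.testBit n = true → orbitC.testBit n = false ∧ orbitD.testBit n = false := by
      intro n hn h
      have := (hA n hn h).1
      refine ⟨?_, ?_⟩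
      · by_contra e; have := (hC n hn (by simpa using e)).1; omega
      · by_contra e; have := hD n hn (by simpa using e); omega
    have e : tnum = ((Finset.range 1024).filter fun n => orbitA.testBit n = true) ∪
        ((if εC then (Finset.range 1024).filter fun n => orbitC.testBit n = true else ∅) ∪
        (if εD then (Finset.range 1024).filter fun n => orbitD.testBit n = true else ∅)) := by
      ext n
      by_cases hn : n < 1024
      · simp only [tnum, Finset.mem_filter, Finset.mem_range, hn, true_and, Finset.mem_union, htn n hn]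
        split_ifs with h1 h2 <;> simp [h1, *]
      · simp only [tnum, Finset.mem_filter, Finset.mem_range, hn, false_and, Finset.mem_union]
        split_ifs <;> simp [hn]
    rw [e, Finset.card_union_of_disjoint, Finset.card_union_of_disjoint, cA, add_assoc]
    · congr 1
      split_ifs <;> simp [cC, cD]
    · refine Finset.disjoint_left.2 fun n h1 h2 => ?_
      split_ifs at h1 h2 <;> simp only [Finset.mem_filter, Finset.mem_range, Finset.notMem_empty] at h1 h2
      rw [(hC n h1.1 h1.2).2] at h2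
      simp at h2
    · refine Finset.disjoint_left.2 fun n h1 h2 => ?_
      simp only [Finset.mem_filter, Finset.mem_range] at h1
      obtain ⟨d1, d2⟩ := hdis1 n h1.1 h1.2
      rw [Finset.mem_union] at h2
      rcases h2 with h2 | h2 <;> split_ifs at h2 <;> simp [d1, d2] at h2
  obtain ⟨hεC, hεD, hq31⟩ : ¬ εC ∧ εD ∧ q = 31 := by
    obtain ⟨n, hn, h64, hT⟩ := hex
    have hor : εC ∨ εD := by
      rcases (htn n hn).1 hT with h | h | h
      · have := (hA n hn h).1; omega
      · exact Or.inl h.1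
      · exact Or.inr h.1
    by_cases h1 : εC <;> by_cases h2 : εD <;> simp [h1, h2] at hcount hor <;> first | omega | exact ⟨h1, h2, by omega⟩
  have hTiff : ∀ n < 1024, (X.TT (X.alpha n) ↔ inT n = true) := fun n hn => by
    rw [htn n hn, inT, Bool.or_eq_true]
    simp [hεC, hεD]
  have hSiff : ∀ n < 1024, (inS n = true ↔ n ≠ 0 ∧ inT n = false) := by
    intro n hn
    simp only [inS, inT, Bool.or_eq_true, Bool.or_eq_false_iff]
    constructor
    · rintro (h | h)
      · obtain ⟨h64, hd, h0⟩ := hB n hn h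
        refine ⟨h0, ?_, ?_⟩
        · by_contra e; have := (hA n hn (by simpa using e)).2; rw [hd] at this; simp at this
        · by_contra e; have := hD n hn (by simpa using e); omega
      · obtain ⟨h64, hd⟩ := hC n hn h
        refine ⟨by omega, ?_, hd⟩
        by_contra e; have := (hA n hn (by simpa using e)).1; omega
    · rintro ⟨h0, h1, h2⟩
      rcases hall n hn h0 with h | h | ⟨-, h | h⟩
      · rw [h1] at h; simp at h
      · exact Or.inl h
      · exact Or.inr h
      · rw [h2] at h; simp at h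
  have mapT : ∀ g ∈ N0, ∀ a < 1024, ∀ b < 1024, g * X.alpha a * g⁻¹ = X.alpha b →
      inT a = inT b ∧ inS a = inS b := by
    intro g hg a ha b hb e
    have h1 : inT a = inT b := Bool.eq_iff_iff.2 (by
      rw [← hTiff a ha, ← hTiff b hb, ← e]
      exact ⟨hTT (isConj_iff.2 ⟨g, rfl⟩), hTT (isConj_iff.2 ⟨g, rfl⟩).symm⟩)
    have h0 : a = 0 ↔ b = 0 := by
      constructor
      · rintro rfl
        rw [X.alpha_zero, mul_one, mul_inv_cancel] at e
        exact X.alpha_inj hb (by norm_num) (e.symm.trans X.alpha_zero.symm)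
      · rintro rfl
        rw [X.alpha_zero, conj_eq_one_iff] at e
        exact X.alpha_inj ha (by norm_num) (e.trans X.alpha_zero.symm)
    refine ⟨h1, Bool.eq_iff_iff.2 ?_⟩
    rw [hSiff a ha, hSiff b hb, h1, ne_eq, ne_eq, h0]
  refine ⟨by rw [hq, hq31]; ring, mapT, ?_, ?_⟩
  · intro a ha b hb hTa hTb
    obtain ⟨g, hg, e⟩ := hfuse a ha ((hTiff a ha).2 hTa)
    obtain ⟨g', hg', e'⟩ := hfuse b hb ((hTiff b hb).2 hTb)
    refine ⟨g' * g⁻¹, mul_mem hg' (inv_mem hg), ?_⟩
    rw [← e, ← e']; group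
  · have hz : ∀ b < 1024, inS b = true → ∃ g ∈ N0, g * X.alpha startB * g⁻¹ = X.alpha b := by
      have hB' : ∀ b, orbitB.testBit b = true → ∃ g ∈ N0, g * X.alpha startB * g⁻¹ = X.alpha b :=
        fun b h => by obtain ⟨x, hx, e⟩ := X.rel_walk wB' sB h; exact ⟨x, hloc hx, e⟩
      obtain ⟨g, hg, c, hc, hcC, hgc⟩ : ∃ g ∈ N0, ∃ c < 1024, orbitC.testBit c = true ∧
          g * X.alpha startB * g⁻¹ = X.alpha c := by
        by_contra hno
        push Not at hno
        obtain ⟨a, ha, hab⟩ := List.any_eq_true.1 two_in_B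
        rw [List.mem_range] at ha
        simp only [Bool.and_eq_true] at hab
        -- then conjugates of the first orbit stay inside
        have hstay : ∀ g ∈ N0, ∀ n < 1024, orbitB.testBit n = true → ∃ m < 64, g * X.alpha n * g⁻¹ = X.alpha m := by
          intro g hg n hn hnB
          obtain ⟨m, hm, e⟩ := (mem_normalizer_iff.1 hg _).1 ⟨n, hn, rfl⟩
          have hS : inS m = true := by rw [← (mapT g hg n hn m hm e.symm).2, inS, hnB, Bool.true_or]
          rw [inS, Bool.or_eq_true] at hS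
          rcases hS with h | h
          · exact ⟨m, (hB m hm h).1, e.symm⟩
          · obtain ⟨x, hx, hxe⟩ := hB' n hnB
            refine absurd ?_ (hno (g * x) (mul_mem hg hx) m hm h)
            rw [show g * x * X.alpha startB * (g * x)⁻¹ = g * (x * X.alpha startB * x⁻¹) * g⁻¹ by group, hxe, e]
        have hTA : tnum ⊆ (Finset.range 1024).filter fun n => orbitA.testBit n = true := by
          intro n hn
          obtain ⟨hn', hT⟩ := Finset.mem_filter.1 hn
          rw [Finset.mem_range] at hn'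
          obtain ⟨g, hg, e⟩ := hfuse n hn' hT
          have h2 : startA ^^^ a < 1024 := Nat.xor_lt_two_pow (n := 10) (by omega) (by omega)
          obtain ⟨m1, hm1, e1⟩ := hstay g hg a (by omega) hab.1
          obtain ⟨m2, hm2, e2⟩ := hstay g hg _ h2 hab.2
          have : X.alpha n = X.alpha (m1 ^^^ m2) := by
            rw [X.alpha_xor, ← e1, ← e2, J4Eleven.conj_mul, ← X.alpha_xor, Nat.xor_comm startA, ← Nat.xor_assoc,
              Nat.xor_self, Nat.zero_xor, ← e]
          have h64 : n < 64 := by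
            rw [X.alpha_inj hn' (lt_trans (Nat.xor_lt_two_pow (n := 6) hm1 hm2) (by norm_num)) this]
            exact Nat.xor_lt_two_pow (n := 6) hm1 hm2
          refine Finset.mem_filter.2 ⟨Finset.mem_range.2 hn', hnSA n hn' ?_⟩
          obtain ⟨h1, h2⟩ := X.not_z_of_TT hT
          exact mem_nS.2 ⟨(X.alpha_mem_V hn').2 h64, h2, h1⟩
        have := Finset.card_le_card hTA
        rw [cA, htq, hq31] at this
        omega
      intro b hb hSb
      rw [inS, Bool.or_eq_true] at hSb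
      rcases hSb with h | h
      · exact hB' b h
      · obtain ⟨x, hx, e⟩ := X.rel_walk wC hcC h
        refine ⟨x * g, mul_mem (hloc hx) hg, ?_⟩
        rw [show x * g * X.alpha startB * (x * g)⁻¹ = x * (g * X.alpha startB * g⁻¹) * x⁻¹ by group, hgc, e]
    intro a ha b hb hSa hSb
    obtain ⟨g, hg, e⟩ := hz a ha hSa
    obtain ⟨g', hg', e'⟩ := hz b hb hSb
    refine ⟨g' * g⁻¹, mul_mem hg' (inv_mem hg), ?_⟩
    rw [← e, ← e']; group

end CfsgLib.J4Ten
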