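import Cfsg.Agent.J4Ten.Fusion
import Mathlib.LinearAlgebra.Matrix.GeneralLinearGroup.Card
import Mathlib.LinearAlgebra.Matrix.SpecialLinearGroup

/-!
The action of the normaliser on the standard subgroup as the exterior square of five dimensions.
-/

set_option autoImplicit false
set_option maxRecDepth 100000
set_option linter.style.haveILetI false
set_option linter.unusedSectionVars false

namespace CfsgLib.J4Ten

open Cfsg CfsgLib.Golay CfsgLib.J4Eleven Subgroup

attribute [local instance] Classical.propDecidable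

variable {G : Type*} [Group G] [Finite G] {z : G} {V : Subgroup G} (X : Ctx z V)

/-- A product of two coordinates. -/
def prodBit (a b y : ℕ) : Bool := y.testBit a && y.testBit b

/-- The sum of three such products. -/
def plBit (a b c d e f y : ℕ) : Bool := prodBit a b y ^^ (prodBit c d y ^^ prodBit e f y)

/-- A bit as a number. -/
def bb (c : ℕ) (x : Bool) : ℕ := cond x c 0

/-- The five quadratic forms of the exterior square. -/
def pl (y : ℕ) : ℕ :=
  bb 1 (plBit 4 9 5 8 6 7 y) ^^^ (bb 2 (plBit 1 9 2 8 3 7 y) ^^^ (bb 4 (plBit 0 9 2 6 3 5 y) ^^^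
    (bb 8 (plBit 0 8 1 6 3 4 y) ^^^ bb 16 (plBit 0 7 1 5 2 4 y))))

/-- The forms in the coordinates of the standard subgroup. -/
def qf (n : ℕ) : ℕ := pl (comb pInv n)

/-- Third differences vanish. -/
def Quad (f : ℕ → ℕ) : Prop :=
  ∀ a b c, f (a ^^^ b ^^^ c) = f (a ^^^ b) ^^^ (f (a ^^^ c) ^^^ (f (b ^^^ c) ^^^ (f a ^^^ (f b ^^^ f c))))

theorem bb_xor (c : ℕ) (x y : Bool) : bb c (x ^^ y) = bb c x ^^^ bb c y := by
  cases x <;> cases y <;> simp [bb]

theorem prodBit_quad (a b x y w : ℕ) : prodBit a b (x ^^^ y ^^^ w) =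
    (prodBit a b (x ^^^ y) ^^ (prodBit a b (x ^^^ w) ^^ (prodBit a b (y ^^^ w) ^^
      (prodBit a b x ^^ (prodBit a b y ^^ prodBit a b w))))) := by
  simp only [prodBit, Nat.testBit_xor]
  cases x.testBit a <;> cases y.testBit a <;> cases w.testBit a <;>
    cases x.testBit b <;> cases y.testBit b <;> cases w.testBit b <;> rfl

theorem quad_pl : Quad pl := by
  intro x y w
  simp only [pl, plBit, prodBit_quad _ _ x y w, bb_xor]
  ac_rfl

theorem quad_comp {f : ℕ → ℕ} (hf : Quad f) (L : List ℕ) : Quad fun y => f (comb L y) := fun a b c => by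
  simp only [comb_xor]
  exact hf _ _ _

theorem quad_qf : Quad qf := quad_comp quad_pl pInv

/-- A quadratic function vanishing at zero, the coordinate vectors and their pairwise sums vanishes. -/
theorem quad_zero {D : ℕ → ℕ} (hD : Quad D) (h0 : D 0 = 0) (h1 : ∀ i < 10, D (2 ^ i) = 0)
    (h2 : ∀ i < 10, ∀ j < 10, D (2 ^ i ^^^ 2 ^ j) = 0) : ∀ n < 1024, D n = 0 := by
  set B : ℕ → ℕ → ℕ := fun a b => D (a ^^^ b) ^^^ (D a ^^^ D b)
  have hadd : ∀ a b c, B (a ^^^ b) c = B a c ^^^ B b c := by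
    intro a b c
    simp only [B, hD a b c]
    calc D (a ^^^ b) ^^^ (D (a ^^^ c) ^^^ (D (b ^^^ c) ^^^ (D a ^^^ (D b ^^^ D c)))) ^^^ (D (a ^^^ b) ^^^ D c)
        = (D (a ^^^ b) ^^^ D (a ^^^ b)) ^^^ ((D (a ^^^ c) ^^^ (D a ^^^ D c)) ^^^ (D (b ^^^ c) ^^^ (D b ^^^ D c))) := by
          ac_rfl
      _ = _ := by rw [Nat.xor_self, Nat.zero_xor]
  have hB0 : ∀ c, B 0 c = 0 := fun c => by simp [B, h0]
  have hs : ∀ a b, B a b = B b a := fun a b => by simp only [B, Nat.xor_comm a b, Nat.xor_comm (D a)]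
  have e1 : ∀ a < 2 ^ 10, ∀ j < 10, B a (2 ^ j) = 0 := fun a ha j hj => by
    refine xor_induction (n := 10) (P := fun a => B a (2 ^ j) = 0) (hB0 _) (fun i hi => ?_) ?_ a ha
    · simp [B, h1 i hi, h1 j hj, h2 i hi j hj]
    · intro u v _ _ hu hv
      rw [hadd, hu, hv, Nat.xor_self]
  have e2 : ∀ a < 2 ^ 10, ∀ b < 2 ^ 10, B a b = 0 := fun a ha b hb => by
    rw [hs]
    refine xor_induction (n := 10) (P := fun b => B b a = 0) (hB0 _) (fun j hj => hs _ a ▸ e1 a ha j hj) ?_ b hb
    intro u v _ _ hu hv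
    rw [hadd, hu, hv, Nat.xor_self]
  intro n hn
  refine xor_induction (n := 10) (P := fun n => D n = 0) h0 h1 ?_ n hn
  intro u v hu hv hu0 hv0
  simpa [B, hu0, hv0] using e2 u hu v hv

/-! ### Finite checks -/

theorem coord_spec :
    (∀ k < 10, comb pB (pInv.getD k 0) = 2 ^ k ∧ comb pInv (pB.getD k 0) = 2 ^ k) ∧
    pB.length = 10 ∧ (∀ b ∈ pB, b < 2 ^ 10) ∧ (∀ b ∈ pInv, b < 2 ^ 10) := by decide +kernel

theorem pB_pInv {n : ℕ} (hn : n < 1024) : comb pB (comb pInv n) = n := by
  refine xor_induction (n := 10) (P := fun n => comb pB (comb pInv n) = n) (by simp [comb_zero]) ?_ ?_ n hn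
  · intro k hk
    rw [comb_two_pow]
    exact (coord_spec.1 k hk).1
  · intro a b _ _ ha hb
    rw [comb_xor, comb_xor, ha, hb]

theorem pInv_pB {n : ℕ} (hn : n < 1024) : comb pInv (comb pB n) = n := by
  refine xor_induction (n := 10) (P := fun n => comb pInv (comb pB n) = n) (by simp [comb_zero]) ?_ ?_ n hn
  · intro k hk
    rw [comb_two_pow]
    exact (coord_spec.1 k hk).2
  · intro a b _ _ ha hb
    rw [comb_xor, comb_xor, ha, hb]

theorem pB_lt (n : ℕ) : comb pB n < 1024 := comb_lt (n := 10) coord_spec.2.2.1 n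

theorem qf_zero_iff : (List.range 1024).all (fun n => (qf n == 0) == (n == 0 || inS n)) = true := by
  decide +kernel

theorem qf_eq_zero {n : ℕ} (hn : n < 1024) : qf n = 0 ↔ n = 0 ∨ inS n = true := by
  have h := List.all_eq_true.1 qf_zero_iff n (List.mem_range.2 hn)
  rw [beq_iff_eq, Bool.eq_iff_iff, beq_iff_eq, Bool.or_eq_true, beq_iff_eq] at h
  exact h

theorem base_spec : ∀ k < 5, pl (basePair.getD k 0) = 2 ^ k ∧ basePair.getD k 0 < 2 ^ 10 := by decide +kernel

/-- Each pair is a chosen one or differs from it by a vector on which the forms vanish. -/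
def pairOK (i j : ℕ) : Bool :=
  let y := 2 ^ i ^^^ 2 ^ j
  let w := basePair.getD (pl y).log2 0
  (pl y == 0) || (decide ((pl y).log2 < 5) && ((w == y) ||
    ((pl (y ^^^ w) == 0) && (List.range 10).any fun c => (List.range 10).any fun d =>
      (w == 2 ^ c ^^^ 2 ^ d) && (pl (2 ^ i ^^^ 2 ^ c) == 0) && (pl (2 ^ i ^^^ 2 ^ d) == 0) &&
        (pl (2 ^ j ^^^ 2 ^ c) == 0) && (pl (2 ^ j ^^^ 2 ^ d) == 0))))

theorem pair_spec : ((List.range 10).all fun i => (pl (2 ^ i) == 0) && (List.range 10).all (pairOK i)) = true := by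
  decide +kernel

/-- A spanned set as a bit set. -/
def spanMask (L : List ℕ) : ℕ := (spanL L).foldl (fun m x => m ||| (1 <<< x)) 0

theorem fib_spec :
    (((List.range 32).all fun p => p == 0 || (fibB.getD p []).all fun n => decide (n < 1024) && (qf n == p)) &&
    ((List.range 1024).all fun n => qf n == 0 || (spanMask (fibB.getD (qf n) [])).testBit n) &&
    ((List.range 10).all fun i =>
      let t := three.getD i (0, 0, 0)
      let M := spanMask (fibB.getD t.1 []) &&& spanMask (fibB.getD t.2.1 []) &&& spanMask (fibB.getD t.2.2 [])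
      (M == (1 ||| (1 <<< pB.getD i 0))) && decide (0 < t.1 ∧ t.1 < 32 ∧ 0 < t.2.1 ∧ t.2.1 < 32 ∧ 0 < t.2.2 ∧ t.2.2 < 32)))
      = true := by decide +kernel

theorem testBit_spanMask {L : List ℕ} {n : ℕ} : (spanMask L).testBit n = true ↔ n ∈ spanL L := by
  have key : ∀ (l : List ℕ) (a : ℕ), (l.foldl (fun m x => m ||| (1 <<< x)) a).testBit n = true ↔
      a.testBit n = true ∨ n ∈ l := by
    intro l
    induction l with
    | nil => intro a; simp
    | cons x t ih =>
      intro a
      rw [List.foldl_cons, ih, Nat.testBit_or, Nat.one_shiftLeft, Nat.testBit_two_pow, List.mem_cons,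
        Bool.or_eq_true, decide_eq_true_eq, or_assoc, eq_comm (a := x)]
  rw [spanMask, key]
  simp

theorem spanL_xor : ∀ (L : List ℕ) {a b : ℕ}, a ∈ spanL L → b ∈ spanL L → a ^^^ b ∈ spanL L := by
  intro L
  induction L with
  | nil => intro a b ha hb; simp [spanL] at ha hb ⊢; simp [ha, hb]
  | cons c l ih =>
    intro a b ha hb
    rw [mem_spanL_cons] at ha hb ⊢
    have hcc : ∀ x y : ℕ, (x ^^^ c) ^^^ (y ^^^ c) = x ^^^ y := fun x y => by
      rw [show (x ^^^ c) ^^^ (y ^^^ c) = x ^^^ y ^^^ (c ^^^ c) by ac_rfl, Nat.xor_self, Nat.xor_zero]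
    rcases ha with ha | ha <;> rcases hb with hb | hb
    · exact Or.inl (ih ha hb)
    · exact Or.inr (by have := ih ha hb; rwa [← Nat.xor_assoc] at this)
    · exact Or.inr (by have := ih ha hb; rwa [Nat.xor_right_comm] at this)
    · exact Or.inl (by have := ih ha hb; rwa [hcc] at this)

/-! ### The induced linear maps -/

theorem Ctx.exists_image {g : G} (hg : g ∈ normalizer (X.ten : Set G)) (n : ℕ) :
    ∃ m < 1024, n < 1024 → g * X.alpha n * g⁻¹ = X.alpha m := by
  by_cases hn : n < 1024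
  · obtain ⟨m, hm, e⟩ := (mem_normalizer_iff.1 hg _).1 ⟨n, hn, rfl⟩
    exact ⟨m, hm, fun _ => e.symm⟩
  · exact ⟨0, by norm_num, fun h => absurd h hn⟩

/-- The action on coordinates. -/
noncomputable def Ctx.mv (g : normalizer (X.ten : Set G)) (n : ℕ) : ℕ := (X.exists_image g.2 n).choose

theorem Ctx.mv_lt (g : normalizer (X.ten : Set G)) (n : ℕ) : X.mv g n < 1024 :=
  (X.exists_image g.2 n).choose_spec.1

theorem Ctx.mv_spec (g : normalizer (X.ten : Set G)) {n : ℕ} (hn : n < 1024) :
    (g : G) * X.alpha n * (g : G)⁻¹ = X.alpha (X.mv g n) :=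
  (X.exists_image g.2 n).choose_spec.2 hn

theorem Ctx.mv_xor (g : normalizer (X.ten : Set G)) {a b : ℕ} (ha : a < 1024) (hb : b < 1024) :
    X.mv g (a ^^^ b) = X.mv g a ^^^ X.mv g b := by
  have hab : a ^^^ b < 1024 := Nat.xor_lt_two_pow (n := 10) ha hb
  refine X.alpha_inj (X.mv_lt g _) (Nat.xor_lt_two_pow (n := 10) (X.mv_lt g a) (X.mv_lt g b)) ?_
  rw [← X.mv_spec g hab, X.alpha_xor, X.alpha_xor, ← X.mv_spec g ha, ← X.mv_spec g hb, J4Eleven.conj_mul]

theorem Ctx.mv_mul (g k : normalizer (X.ten : Set G)) {n : ℕ} (hn : n < 1024) :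
    X.mv (g * k) n = X.mv g (X.mv k n) := by
  refine X.alpha_inj (X.mv_lt _ _) (X.mv_lt _ _) ?_
  rw [← X.mv_spec _ hn, ← X.mv_spec g (X.mv_lt k n), ← X.mv_spec k hn, Subgroup.coe_mul]
  group

/-- The images of the five chosen values. -/
noncomputable def Ctx.hcols (g : normalizer (X.ten : Set G)) : List ℕ :=
  (List.range 5).map fun k => qf (X.mv g (comb pB (basePair.getD k 0)))

theorem Ctx.hcols_getD (g : normalizer (X.ten : Set G)) {k : ℕ} (hk : k < 5) :
    (X.hcols g).getD k 0 = qf (X.mv g (comb pB (basePair.getD k 0))) := by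
  rw [Ctx.hcols, List.getD_eq_getElem _ _ (by simpa using hk), List.getElem_map, List.getElem_range]

variable (hF : X.Fused)

include hF

theorem Ctx.mv_qf_zero (g : normalizer (X.ten : Set G)) {n : ℕ} (hn : n < 1024) (h : qf n = 0) :
    qf (X.mv g n) = 0 := by
  rw [qf_eq_zero (X.mv_lt g n)]
  rcases (qf_eq_zero hn).1 h with rfl | h
  · refine Or.inl (X.alpha_inj (X.mv_lt g 0) (by norm_num) ?_)
    rw [← X.mv_spec g (by norm_num), X.alpha_zero, mul_one, mul_inv_cancel]
  · exact Or.inr ((hF.map_T g g.2 n hn _ (X.mv_lt g n) (X.mv_spec g hn)).2.symm.trans h)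

/-- The forms are permuted linearly. -/
theorem Ctx.qf_mv (g : normalizer (X.ten : Set G)) {n : ℕ} (hn : n < 1024) :
    qf (X.mv g n) = comb (X.hcols g) (qf n) := by
  let D : ℕ → ℕ := fun y => qf (X.mv g (comb pB y)) ^^^ comb (X.hcols g) (pl y)
  have hlin : ∀ a b, X.mv g (comb pB (a ^^^ b)) = X.mv g (comb pB a) ^^^ X.mv g (comb pB b) := fun a b => by
    rw [comb_xor, X.mv_xor g (pB_lt a) (pB_lt b)]
  have hD : Quad D := by
    intro a b c
    simp only [D, hlin]
    rw [quad_qf (X.mv g (comb pB a)) (X.mv g (comb pB b)) (X.mv g (comb pB c)), quad_pl a b c]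
    simp only [comb_xor]
    ac_rfl
  have hz : ∀ y < 1024, pl y = 0 → D y = 0 := fun y hy h => by
    have h' : qf (comb pB y) = 0 := by rw [qf, pInv_pB hy]; exact h
    simp only [D, h, comb_zero, X.mv_qf_zero hF g (pB_lt y) h', Nat.xor_self]
  have hbase : ∀ k < 5, D (basePair.getD k 0) = 0 := fun k hk => by
    simp only [D, (base_spec k hk).1, comb_two_pow, X.hcols_getD g hk, Nat.xor_self]
  have hpl0 : pl 0 = 0 := by decide +kernel
  have hD0 : D 0 = 0 := hz 0 (by norm_num) hpl0
  have hp : ∀ i < 10, 2 ^ i < 1024 := fun i hi => by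
    rw [show 1024 = 2 ^ 10 by norm_num]; exact Nat.pow_lt_pow_right (by norm_num) hi
  have hpp : ∀ i < 10, ∀ j < 10, 2 ^ i ^^^ 2 ^ j < 1024 := fun i hi j hj =>
    Nat.xor_lt_two_pow (n := 10) (hp i hi) (hp j hj)
  have hsingle : ∀ i < 10, D (2 ^ i) = 0 := fun i hi => by
    have h := List.all_eq_true.1 pair_spec i (List.mem_range.2 hi)
    rw [Bool.and_eq_true, beq_iff_eq] at h
    exact hz _ (hp i hi) h.1
  have hpair : ∀ i < 10, ∀ j < 10, D (2 ^ i ^^^ 2 ^ j) = 0 := by
    intro i hi j hj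
    have h := List.all_eq_true.1 pair_spec i (List.mem_range.2 hi)
    rw [Bool.and_eq_true] at h
    have h' := List.all_eq_true.1 h.2 j (List.mem_range.2 hj)
    simp only [pairOK, Bool.or_eq_true, Bool.and_eq_true, decide_eq_true_eq, beq_iff_eq, List.any_eq_true,
      List.mem_range] at h'
    rcases h' with h' | ⟨hk, h' | ⟨hs, c, hc, d, hd, ⟨⟨⟨hw, z1⟩, z2⟩, z3⟩, z4⟩⟩
    · exact hz _ (hpp i hi j hj) h'
    · rw [← h']; exact hbase _ hk
    set w := basePair.getD (pl (2 ^ i ^^^ 2 ^ j)).log2 0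
    have e4 : D (2 ^ i ^^^ 2 ^ j ^^^ w) = 0 := hz _ (Nat.xor_lt_two_pow (n := 10) (hpp i hi j hj) (base_spec _ hk).2) hs
    have eb := hbase _ hk
    change D w = 0 at eb
    have v1 := hz _ (hpp i hi c hc) z1
    have v2 := hz _ (hpp i hi d hd) z2
    have v3 := hz _ (hpp j hj c hc) z3
    have v4 := hz _ (hpp j hj d hd) z4
    rw [hw] at eb e4
    have E1 := hD (2 ^ i ^^^ 2 ^ j) (2 ^ c) (2 ^ d)
    rw [Nat.xor_assoc (2 ^ i ^^^ 2 ^ j) (2 ^ c) (2 ^ d), e4, eb, hsingle c hc, hsingle d hd,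
      hD (2 ^ i) (2 ^ j) (2 ^ c), hD (2 ^ i) (2 ^ j) (2 ^ d), v1, v2, v3, v4, hsingle i hi, hsingle j hj,
      hsingle c hc, hsingle d hd] at E1
    simpa [Nat.xor_assoc] using E1.symm
  have hall := quad_zero hD hD0 hsingle hpair (comb pInv n) (comb_lt (n := 10) coord_spec.2.2.2 n)
  simp only [D, pB_pInv hn] at hall
  have hx : qf (X.mv g n) = (qf (X.mv g n) ^^^ comb (X.hcols g) (pl (comb pInv n))) ^^^ comb (X.hcols g) (pl (comb pInv n)) := by
    rw [Nat.xor_assoc, Nat.xor_self, Nat.xor_zero]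
  rw [hall, Nat.zero_xor] at hx
  exact hx

omit hF in
theorem qf_lt (n : ℕ) : qf n < 2 ^ 5 := by
  have hb : ∀ c, c < 2 ^ 5 → ∀ x, bb c x < 2 ^ 5 := fun c hc x => by cases x <;> simp [bb]; exact hc
  exact Nat.xor_lt_two_pow (hb _ (by norm_num) _) (Nat.xor_lt_two_pow (hb _ (by norm_num) _)
    (Nat.xor_lt_two_pow (hb _ (by norm_num) _) (Nat.xor_lt_two_pow (hb _ (by norm_num) _) (hb _ (by norm_num) _))))

/-- A vector of five bits. -/
def vec5 (s : ℕ) : Fin 5 → ZMod 2 := fun i => if s.testBit i then 1 else 0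

omit hF in
theorem vec5_xor (a b : ℕ) : vec5 (a ^^^ b) = vec5 a + vec5 b := by
  funext i
  simp only [vec5, Pi.add_apply, Nat.testBit_xor]
  cases a.testBit i <;> cases b.testBit i <;> decide

omit hF in
theorem vec5_inj {a b : ℕ} (ha : a < 2 ^ 5) (hb : b < 2 ^ 5) (h : vec5 a = vec5 b) : a = b := by
  refine Nat.eq_of_testBit_eq fun i => ?_
  by_cases hi : i < 5
  · have := congrFun h ⟨i, hi⟩
    simp only [vec5] at this
    revert this
    cases a.testBit i <;> cases b.testBit i <;> decide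
  · rw [Nat.testBit_lt_two_pow (ha.trans_le (Nat.pow_le_pow_right (by norm_num) (by omega))),
      Nat.testBit_lt_two_pow (hb.trans_le (Nat.pow_le_pow_right (by norm_num) (by omega)))]

/-- The matrix of an element. -/
noncomputable def Ctx.mat (g : normalizer (X.ten : Set G)) : Matrix (Fin 5) (Fin 5) (ZMod 2) :=
  Matrix.of fun i k => vec5 ((X.hcols g).getD k 0) i

omit hF in
theorem Ctx.mat_mulVec (g : normalizer (X.ten : Set G)) {s : ℕ} (hs : s < 2 ^ 5) :
    (X.mat g).mulVec (vec5 s) = vec5 (comb (X.hcols g) s) := by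
  refine xor_induction (n := 5) (P := fun s => (X.mat g).mulVec (vec5 s) = vec5 (comb (X.hcols g) s)) ?_ ?_ ?_ s hs
  · have : vec5 0 = 0 := by funext i; simp [vec5]
    simp [this, comb_zero]
  · intro k hk
    have : vec5 (2 ^ k) = Pi.single (⟨k, hk⟩ : Fin 5) 1 := by
      funext i
      by_cases h : (i : ℕ) = k
      · obtain rfl : i = ⟨k, hk⟩ := Fin.ext h
        simp [vec5]
      · rw [Pi.single_eq_of_ne (fun e => h (congrArg Fin.val e))]
        simp [vec5, Nat.testBit_two_pow, Ne.symm h]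
    rw [this, Matrix.mulVec_single_one, comb_two_pow]
    rfl
  · intro a b _ _ ha hb
    rw [vec5_xor, Matrix.mulVec_add, ha, hb, comb_xor, vec5_xor]

theorem Ctx.mat_mul (g k : normalizer (X.ten : Set G)) : X.mat (g * k) = X.mat g * X.mat k := by
  ext i j
  have h : (X.mat g).mulVec (vec5 ((X.hcols k).getD j 0)) = vec5 ((X.hcols (g * k)).getD j 0) := by
    rw [X.hcols_getD k j.2, X.hcols_getD (g * k) j.2, X.mat_mulVec g (qf_lt _), ← X.qf_mv hF g (X.mv_lt k _),
      ← X.mv_mul g k (pB_lt _)]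
  exact (congrFun h i).symm

theorem Ctx.mat_one : X.mat 1 = 1 := by
  ext i j
  have h : X.mv 1 (comb pB (basePair.getD j 0)) = comb pB (basePair.getD j 0) :=
    X.alpha_inj (X.mv_lt _ _) (pB_lt _) (by rw [← X.mv_spec 1 (pB_lt _)]; simp)
  show vec5 ((X.hcols 1).getD j 0) i = _
  rw [X.hcols_getD 1 j.2, h, qf, pInv_pB (base_spec _ j.2).2, (base_spec _ j.2).1]
  simp only [vec5, Matrix.one_apply, Nat.testBit_two_pow, decide_eq_true_eq]
  exact if_congr ⟨fun h => Fin.ext h.symm, fun h => h ▸ rfl⟩ rfl rfl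

theorem Ctx.mat_det (g : normalizer (X.ten : Set G)) : (X.mat g).det = 1 := by
  have h := congrArg Matrix.det (X.mat_mul hF g g⁻¹)
  rw [mul_inv_cancel, X.mat_one hF, Matrix.det_one, Matrix.det_mul] at h
  have key : ∀ a b : ZMod 2, (1 : ZMod 2) = a * b → a = 1 := by decide +kernel
  exact key _ _ h

/-- The action on five dimensions. -/
noncomputable def Ctx.theta : normalizer (X.ten : Set G) →* Matrix.SpecialLinearGroup (Fin 5) (ZMod 2) :=
  MonoidHom.mk' (fun g => ⟨X.mat g, X.mat_det hF g⟩) fun g k => Subtype.ext (X.mat_mul hF g k)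

theorem Ctx.theta_ker (g : normalizer (X.ten : Set G)) : X.theta hF g = 1 ↔ (g : G) ∈ X.ten := by
  constructor
  · intro h
    have hm : X.mat g = 1 := congrArg Subtype.val h
    have hq : ∀ n < 1024, qf (X.mv g n) = qf n := fun n hn => by
      refine vec5_inj (qf_lt _) (qf_lt _) ?_
      rw [X.qf_mv hF g hn, ← X.mat_mulVec g (qf_lt n), hm, Matrix.one_mulVec]
    have hspec := fib_spec
    simp only [Bool.and_eq_true] at hspec
    obtain ⟨⟨hfib, hcov⟩, hthree⟩ := hspec
    have hin : ∀ p, 0 < p → p < 32 → ∀ x ∈ spanL (fibB.getD p []), x < 1024 ∧ X.mv g x ∈ spanL (fibB.getD p []) := by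
      intro p hp0 hp
      have hb : ∀ b ∈ fibB.getD p [], b < 1024 ∧ qf b = p := by
        intro b hb
        have h1 := List.all_eq_true.1 hfib p (List.mem_range.2 hp)
        rw [Bool.or_eq_true, beq_iff_eq] at h1
        have h2 := List.all_eq_true.1 (h1.resolve_left (by omega)) b hb
        simpa [Bool.and_eq_true] using h2
      have hcl : ∀ b ∈ fibB.getD p [], X.mv g b ∈ spanL (fibB.getD p []) := by
        intro b hb'
        obtain ⟨hb1, hb2⟩ := hb b hb'
        have h1 := List.all_eq_true.1 hcov (X.mv g b) (List.mem_range.2 (X.mv_lt g b))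
        rw [hq b hb1, hb2, Bool.or_eq_true, beq_iff_eq] at h1
        exact testBit_spanMask.1 (h1.resolve_left (by omega))
      have h0 : ∀ L : List ℕ, 0 ∈ spanL L := fun L => by
        induction L with
        | nil => simp [spanL]
        | cons a l ih => rw [spanL]; exact List.mem_append_left _ ih
      have key : ∀ L : List ℕ, (∀ b ∈ L, b ∈ fibB.getD p []) → ∀ x ∈ spanL L,
          x < 1024 ∧ X.mv g x ∈ spanL (fibB.getD p []) := by
        intro L
        induction L with
        | nil =>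
          intro _ x hx
          simp only [spanL, List.mem_singleton] at hx
          subst hx
          refine ⟨by norm_num, ?_⟩
          rw [X.alpha_inj (X.mv_lt g 0) (by norm_num : 0 < 1024)
            (by rw [← X.mv_spec g (by norm_num), X.alpha_zero, mul_one, mul_inv_cancel])]
          exact h0 _
        | cons a l ih =>
          intro hL x hx
          simp only [spanL, List.mem_append, List.mem_map] at hx
          have ih' := ih fun b hb => hL b (List.mem_cons_of_mem _ hb)
          rcases hx with hx | ⟨y, hy, rfl⟩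
          · exact ih' x hx
          · have ha := (hb a (hL a List.mem_cons_self)).1
            refine ⟨Nat.xor_lt_two_pow (n := 10) ha (ih' y hy).1, ?_⟩
            rw [X.mv_xor g ha (ih' y hy).1]
            exact spanL_xor _ (hcl a (hL a List.mem_cons_self)) (ih' y hy).2
      exact key _ fun _ hb => hb
    have hfix : ∀ i < 10, X.mv g (pB.getD i 0) = pB.getD i 0 := by
      intro i hi
      have h1 := List.all_eq_true.1 hthree i (List.mem_range.2 hi)
      simp only [Bool.and_eq_true, beq_iff_eq, decide_eq_true_eq] at h1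
      obtain ⟨hM, p1, p1', p2, p2', p3, p3'⟩ := h1
      have hx : ∀ x, (x ∈ spanL (fibB.getD (three.getD i (0, 0, 0)).1 []) ∧
          x ∈ spanL (fibB.getD (three.getD i (0, 0, 0)).2.1 []) ∧
          x ∈ spanL (fibB.getD (three.getD i (0, 0, 0)).2.2 [])) ↔ x = 0 ∨ x = pB.getD i 0 := by
        intro x
        have h2 := congrArg (fun m => Nat.testBit m x) hM
        simp only [Nat.testBit_and, Nat.testBit_or, Nat.one_shiftLeft, Nat.testBit_two_pow] at h2
        rw [Bool.eq_iff_iff, Bool.and_eq_true, Bool.and_eq_true, testBit_spanMask, testBit_spanMask,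
          testBit_spanMask, Bool.or_eq_true, decide_eq_true_eq, Nat.testBit_one_eq_true_iff_self_eq_zero, and_assoc] at h2
        rw [h2]
        exact or_congr Iff.rfl eq_comm
      obtain ⟨m1, m2, m3⟩ := (hx _).2 (Or.inr rfl)
      obtain ⟨hlt, r1⟩ := hin _ p1 p1' _ m1
      obtain ⟨-, r2⟩ := hin _ p2 p2' _ m2
      obtain ⟨-, r3⟩ := hin _ p3 p3' _ m3
      rcases (hx _).1 ⟨r1, r2, r3⟩ with h0 | h0
      · have hne : pB.getD i 0 ≠ 0 := fun e => by
          have := (coord_spec.1 i hi).2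
          rw [e, comb_zero] at this
          exact Nat.two_pow_pos i |>.ne' this.symm
        refine absurd (X.alpha_inj hlt (by norm_num) ?_) hne
        have h3 := X.mv_spec g hlt
        rw [h0, X.alpha_zero, conj_eq_one_iff] at h3
        rw [h3, X.alpha_zero]
      · exact h0
    have hid : ∀ n < 1024, X.mv g n = n := by
      intro n hn
      rw [← pB_pInv hn]
      refine xor_induction (n := 10) (P := fun y => X.mv g (comb pB y) = comb pB y) ?_ ?_ ?_ _
        (comb_lt (n := 10) coord_spec.2.2.2 n)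
      · rw [comb_zero]
        exact X.alpha_inj (X.mv_lt g 0) (by norm_num)
          (by rw [← X.mv_spec g (by norm_num), X.alpha_zero, mul_one, mul_inv_cancel])
      · intro k hk
        rw [comb_two_pow]
        exact hfix k hk
      · intro a b _ _ ha hb
        rw [comb_xor, X.mv_xor g (pB_lt a) (pB_lt b), ha, hb]
    refine X.centralizer_ten.le (mem_centralizer_iff.2 ?_)
    rintro _ ⟨n, hn, rfl⟩
    have := X.mv_spec g hn
    rw [hid n hn, mul_inv_eq_iff_eq_mul] at this
    exact this.symm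
  · intro hg
    refine Subtype.ext ?_
    show X.mat g = 1
    rw [← X.mat_one hF]
    have hid : ∀ n < 1024, X.mv g n = X.mv 1 n := fun n hn => by
      refine X.alpha_inj (X.mv_lt g n) (X.mv_lt _ n) ?_
      rw [← X.mv_spec g hn, ← X.mv_spec 1 hn, X.ten_comm hg ⟨n, hn, rfl⟩]
      simp
    unfold Ctx.mat Ctx.hcols
    simp only [fun k => hid (comb pB (basePair.getD k 0)) (pB_lt _)]

theorem Ctx.theta_bijective {K : Subgroup (normalizer (X.ten : Set G))}
    (hK : K.IsComplement' (X.ten.subgroupOf (normalizer (X.ten : Set G)))) :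
    Function.Bijective ((X.theta hF).comp K.subtype) := by
  have hinj : Function.Injective ((X.theta hF).comp K.subtype) := by
    rw [injective_iff_map_eq_one]
    intro k hk
    have h : (k : normalizer (X.ten : Set G)) ∈ X.ten.subgroupOf _ := (X.theta_ker hF k.1).1 hk
    exact Subtype.ext (disjoint_def.1 hK.disjoint k.2 h)
  refine (Nat.bijective_iff_injective_and_card _).2 ⟨hinj, le_antisymm (Nat.card_le_card_of_injective _ hinj) ?_⟩
  have h1 := hK.card_mul
  rw [Nat.card_congr (subgroupOfEquivOfLe (le_normalizer (H := X.ten))).toEquiv, X.card_ten, hF.cardN] at h1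
  have hK' : Nat.card K = 9999360 :=
    Nat.eq_of_mul_eq_mul_right (by norm_num : 0 < 2 ^ 10) (h1.trans (by norm_num))
  have hGL : Nat.card (GL (Fin 5) (ZMod 2)) = 9999360 := by
    rw [Matrix.card_GL_field, Fintype.card_eq_nat_card, Nat.card_zmod]
    simp [Fin.prod_univ_succ]
  rw [hK', ← hGL]
  exact Nat.card_le_card_of_injective _ Matrix.SpecialLinearGroup.toGL_injective

end CfsgLib.J4Ten
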