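import Cfsg.Agent.J4Ten.Std

/-!
Self-centralising elementary subgroups of order `2 ^ 10` of the normaliser of `V`.
-/

set_option autoImplicit false
set_option maxRecDepth 100000
set_option linter.style.haveILetI false
set_option linter.unusedSectionVars false

namespace CfsgLib.J4Ten

open Cfsg CfsgLib.Golay CfsgLib.Golay.SylowCert CfsgLib.J4Eleven Subgroup MulAction
open scoped Pointwise

attribute [local instance] Classical.propDecidable

variable {G : Type*} [Group G] [Finite G] {z : G} {V : Subgroup G} (X : Ctx z V)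

/-- The index of the pointwise stabiliser part. -/
def fPart (n : ℕ) : Fin 16 := ⟨(n >>> 6) % 16, Nat.mod_lt _ (by norm_num)⟩

/-- The members of the standard subgroup. -/
noncomputable def Ctx.alpha (n : ℕ) : G := X.elem (comb wB n) (fel (fPart n))

theorem fPart_xor (a b : ℕ) : ((fPart (a ^^^ b) : Fin 16) : ℕ) = (fPart a : ℕ) ^^^ fPart b := by
  show ((a ^^^ b) >>> 6) % 2 ^ 4 = ((a >>> 6) % 2 ^ 4) ^^^ ((b >>> 6) % 2 ^ 4)
  rw [Nat.shiftRight_xor_distrib, Nat.xor_mod_two_pow]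

theorem fel_zero : fel 0 = 1 := by
  have h := fel_mul 0 0 0 (by simp)
  exact mul_eq_left.1 h

theorem Ctx.alpha_xor (a b : ℕ) : X.alpha (a ^^^ b) = X.alpha a * X.alpha b := by
  rw [Ctx.alpha, Ctx.alpha, Ctx.alpha, X.elem_mul (wB_lt b), code_fel, act_wB (fPart a).2, comb_xor,
    fel_mul _ _ _ (fPart_xor a b)]

theorem Ctx.alpha_zero : X.alpha 0 = 1 := by
  rw [Ctx.alpha, show fPart 0 = 0 from rfl, fel_zero, comb_zero, X.elem_one]

theorem Ctx.alpha_sq (a : ℕ) : X.alpha a * X.alpha a = 1 := by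
  rw [← X.alpha_xor, Nat.xor_self, X.alpha_zero]

theorem Ctx.alpha_mem (a : ℕ) : X.alpha a ∈ normalizer (V : Set G) := X.elem_mem _ _

theorem Ctx.alpha_inj {a b : ℕ} (ha : a < 1024) (hb : b < 1024) (h : X.alpha a = X.alpha b) : a = b := by
  obtain ⟨h1, h2⟩ := X.elem_inj (wB_lt a) (wB_lt b) h
  have e2 : (a >>> 6) % 16 = (b >>> 6) % 16 := congrArg Fin.val (fel_injective h2)
  rw [comb_mod wB a, comb_mod wB b, w_parts.2.1] at h1
  have e1 : a % 2 ^ 6 = b % 2 ^ 6 := by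
    have hn := w_parts.2.2.1
    have hl : ∀ x, x % 2 ^ 6 < wImg.length := fun x => by
      simp only [wImg, List.length_map, List.length_range]; exact Nat.mod_lt _ (by norm_num)
    have g : ∀ x, wImg[x % 2 ^ 6]'(hl x) = comb wB (x % 2 ^ 6) := fun x => by simp [wImg]
    exact (hn.getElem_inj_iff (hi := hl a) (hj := hl b)).1 (by rw [g, g]; exact h1)
  rw [Nat.shiftRight_eq_div_pow, Nat.shiftRight_eq_div_pow] at e2
  omega

/-- The standard subgroup of order `2 ^ 10`. -/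
noncomputable def Ctx.ten : Subgroup G where
  carrier := {g | ∃ n < 1024, X.alpha n = g}
  one_mem' := ⟨0, by norm_num, X.alpha_zero⟩
  mul_mem' := by
    rintro _ _ ⟨a, ha, rfl⟩ ⟨b, hb, rfl⟩
    exact ⟨a ^^^ b, Nat.xor_lt_two_pow (n := 10) ha hb, X.alpha_xor a b⟩
  inv_mem' := by
    rintro _ ⟨a, ha, rfl⟩
    exact ⟨a, ha, (inv_eq_of_mul_eq_one_right (X.alpha_sq a)).symm⟩

theorem Ctx.mem_ten {g : G} : g ∈ X.ten ↔ ∃ n < 1024, X.alpha n = g := Iff.rfl

theorem Ctx.ten_sq {g : G} (hg : g ∈ X.ten) : g * g = 1 := by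
  obtain ⟨n, -, rfl⟩ := hg
  exact X.alpha_sq n

theorem Ctx.card_ten : Nat.card X.ten = 2 ^ 10 := by
  let f : Fin 1024 → X.ten := fun n => ⟨X.alpha n, n, n.2, rfl⟩
  have hf : Function.Bijective f := ⟨fun a b e => Fin.ext (X.alpha_inj a.2 b.2 (congrArg Subtype.val e)),
    fun g => by obtain ⟨n, hn, e⟩ := g.2; exact ⟨⟨n, hn⟩, Subtype.ext e⟩⟩
  rw [← Nat.card_eq_of_bijective f hf]
  simp

theorem Ctx.nu_mem_ten {s : ℕ} (hs : s ∈ wImg) : X.nu s ∈ X.ten := by
  obtain ⟨a, ha, rfl⟩ := mem_wImg.1 hs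
  refine ⟨a, by omega, ?_⟩
  have e : fPart a = 0 := Fin.ext (by
    show (a >>> 6) % 16 = 0
    rw [Nat.shiftRight_eq_div_pow]
    omega)
  rw [Ctx.alpha, e, fel_zero, Ctx.elem, map_one, mul_one]

theorem Ctx.κ_fel_mem (j : Fin 16) : X.κ (fel j) ∈ X.ten := by
  refine ⟨(j : ℕ) <<< 6, by rw [Nat.shiftLeft_eq]; omega, ?_⟩
  have e : fPart ((j : ℕ) <<< 6) = j := Fin.ext (by
    show (((j : ℕ) <<< 6) >>> 6) % 16 = j
    rw [Nat.shiftLeft_shiftRight, Nat.mod_eq_of_lt j.2])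
  rw [Ctx.alpha, e, comb_mod, w_parts.2.1, Nat.shiftLeft_eq, Nat.mul_mod_left, comb_zero, Ctx.elem, X.nu_zero,
    one_mul]

theorem Ctx.ten_le : X.ten ≤ normalizer (V : Set G) := by
  rintro _ ⟨n, -, rfl⟩
  exact X.alpha_mem n

theorem Ctx.ten_comm {a b : G} (ha : a ∈ X.ten) (hb : b ∈ X.ten) : a * b = b * a := by
  obtain ⟨i, -, rfl⟩ := ha
  obtain ⟨j, -, rfl⟩ := hb
  rw [← X.alpha_xor, ← X.alpha_xor, Nat.xor_comm]

/-- The standard subgroup is self-centralising. -/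
theorem Ctx.centralizer_ten : centralizer (X.ten : Set G) = X.ten := by
  refine le_antisymm (fun x hx => ?_) fun x hx => mem_centralizer_iff.2 fun a ha => X.ten_comm ha hx
  rw [mem_centralizer_iff] at hx
  have hpt : ∀ {p q : GolayPt}, p ∈ octPts → q ∈ octPts → X.d p q ∈ X.ten := fun {p q} hp hq => by
    rw [X.d_eq_nu]
    exact X.nu_mem_ten (w_parts.2.2.2.2.1 _ (idx_lt p) _ (idx_lt q) (mem_octPts.1 hp) (mem_octPts.1 hq))
  have h8 : octPts.card = 8 := octad_card octPts_mem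
  obtain ⟨a, ha⟩ := Finset.card_pos.1 (by rw [h8]; norm_num : 0 < octPts.card)
  obtain ⟨b, hb⟩ := Finset.card_pos.1 (by rw [Finset.card_erase_of_mem ha, h8]; norm_num :
    0 < (octPts.erase a).card)
  rw [Finset.mem_erase] at hb
  have hxN : x ∈ normalizer (V : Set G) :=
    X.L.centralizer_le X.C X.loc (X.L.mem a b hb.1.symm)
      (mem_centralizer_singleton_iff.2 (hx _ (hpt ha hb.2)).symm)
  obtain ⟨s, hs, e⟩ := X.exists_elem hxN
  set σ := X.φ ⟨x, hxN⟩ with hσ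
  have hset : ∀ {p q : GolayPt}, p ∈ octPts → q ∈ octPts → p ≠ q →
      ((σ : Equiv.Perm GolayPt) p = p ∧ (σ : Equiv.Perm GolayPt) q = q) ∨
        ((σ : Equiv.Perm GolayPt) p = q ∧ (σ : Equiv.Perm GolayPt) q = p) :=
    fun hp hq hne => X.L.stab_pair X.C hne (hx _ (hpt hp hq)).symm
  have hfix : ∀ p ∈ octPts, (σ : Equiv.Perm GolayPt) p = p := by
    intro p hp
    obtain ⟨q, hq⟩ := Finset.card_pos.1 (by rw [Finset.card_erase_of_mem hp, h8]; norm_num :
      0 < (octPts.erase p).card)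
    obtain ⟨r, hr⟩ := Finset.card_pos.1 (by
      rw [Finset.card_erase_of_mem hq, Finset.card_erase_of_mem hp, h8]; norm_num :
      0 < ((octPts.erase p).erase q).card)
    simp only [Finset.mem_erase] at hq hr
    rcases hset hp hq.2 (Ne.symm hq.1) with h | h
    · exact h.1
    · rcases hset hp hr.2.2 (Ne.symm hr.2.1) with h' | h'
      · exact h'.1
      · exact absurd (h.1.symm.trans h'.1) (Ne.symm hr.1)
  obtain ⟨j, hj⟩ := exists_fel hfix
  have hκ : X.κ σ ∈ X.ten := hj ▸ X.κ_fel_mem j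
  have hsW : s ∈ wImg := by
    refine mem_wImg_of_fixed hs fun i hi => X.nu_inj (act_lt _ _) hs ?_
    have h1 : X.κ (fel ⟨i, hi⟩) * X.nu s = X.nu s * X.κ (fel ⟨i, hi⟩) := by
      have hc := hx _ (X.κ_fel_mem ⟨i, hi⟩)
      have hc2 := X.ten_comm (X.κ_fel_mem ⟨i, hi⟩) hκ
      have e' : X.nu s = x * (X.κ σ)⁻¹ := by rw [e, Ctx.elem, mul_inv_cancel_right]
      rw [e']
      calc X.κ (fel ⟨i, hi⟩) * (x * (X.κ σ)⁻¹) = x * (X.κ (fel ⟨i, hi⟩) * (X.κ σ)⁻¹) := by
            rw [← mul_assoc, hc, mul_assoc]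
        _ = x * (X.κ σ)⁻¹ * X.κ (fel ⟨i, hi⟩) := by
            rw [mul_assoc]; congr 1
            exact (Commute.inv_right (show Commute (X.κ (fel ⟨i, hi⟩)) (X.κ σ) from hc2)).eq
    have h2 := X.conj_κ (fel ⟨i, hi⟩) hs
    rw [h1, mul_inv_cancel_right, code_fel] at h2
    exact h2.symm
  rw [e]
  exact mul_mem (X.nu_mem_ten hsW) hκ

theorem lift_spec :
    ((invs.all fun f => decide ((kerStep f ((List.range 11).map (2 ^ ·))).length ≤ 7)) &&
    ((List.range 16).all fun j => j == 0 ||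
      ((spanL (kerStep (fixL.getD j 0) ((List.range 11).map (2 ^ ·)))).all fun s =>
        decide (s ∈ wImg) || decide (s ^^^ dif (fixL.getD j 0) (fu.getD j 0) ∈ wImg))) &&
    ((List.range 16).all fun j => decide (fu.getD j 0 < 2048)) &&
    ((List.range 16).all fun e =>
      let c := fun i => if e.testBit i then dif (fixL.getD (2 ^ i) 0) (fu.getD (2 ^ i) 0) else 0
      !((List.range 4).all fun i => (List.range 4).all fun k =>
        (c i ^^^ act (fixL.getD (2 ^ i) 0) (c k)) == (c k ^^^ act (fixL.getD (2 ^ k) 0) (c i))) ||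
      ((List.range 4).all fun i => decide (c i ^^^ dif (fixL.getD (2 ^ i) 0) (solV.getD e 0) ∈ wImg))) &&
    ((List.range 16).all fun e => decide (solV.getD e 0 < 2048))) = true := by decide +kernel

theorem lift_parts :
    (∀ f ∈ invs, (kerStep f ((List.range 11).map (2 ^ ·))).length ≤ 7) ∧
    (∀ j < 16, j ≠ 0 → ∀ s < 2048, act (fixL.getD j 0) s = s →
      s ∈ wImg ∨ s ^^^ dif (fixL.getD j 0) (fu.getD j 0) ∈ wImg) ∧
    (∀ j < 16, fu.getD j 0 < 2048) ∧
    (∀ e < 16, (∀ i < 4, ∀ k < 4,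
        (if e.testBit i then dif (fixL.getD (2 ^ i) 0) (fu.getD (2 ^ i) 0) else 0) ^^^
            act (fixL.getD (2 ^ i) 0) (if e.testBit k then dif (fixL.getD (2 ^ k) 0) (fu.getD (2 ^ k) 0) else 0) =
          (if e.testBit k then dif (fixL.getD (2 ^ k) 0) (fu.getD (2 ^ k) 0) else 0) ^^^
            act (fixL.getD (2 ^ k) 0) (if e.testBit i then dif (fixL.getD (2 ^ i) 0) (fu.getD (2 ^ i) 0) else 0)) →
      ∀ i < 4, (if e.testBit i then dif (fixL.getD (2 ^ i) 0) (fu.getD (2 ^ i) 0) else 0) ^^^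
        dif (fixL.getD (2 ^ i) 0) (solV.getD e 0) ∈ wImg) ∧
    (∀ e < 16, solV.getD e 0 < 2048) := by
  have h := lift_spec
  simp only [Bool.and_eq_true] at h
  obtain ⟨⟨⟨⟨h1, h2⟩, h3⟩, h4⟩, h5⟩ := h
  refine ⟨fun f hf => of_decide_eq_true (List.all_eq_true.1 h1 f hf), fun j hj hj0 s hs hfix => ?_,
    fun j hj => of_decide_eq_true (List.all_eq_true.1 h3 j (List.mem_range.2 hj)), fun e he hc i hi => ?_,
    fun e he => of_decide_eq_true (List.all_eq_true.1 h5 e (List.mem_range.2 he))⟩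
  · have h := List.all_eq_true.1 h2 j (List.mem_range.2 hj)
    rw [Bool.or_eq_true, beq_iff_eq] at h
    have h' := List.all_eq_true.1 (h.resolve_left hj0) s (kerStep_spec (mem_spanL_two_pow 11 s hs) hfix)
    simpa only [Bool.or_eq_true, decide_eq_true_eq] using h'
  · have h := List.all_eq_true.1 h4 e (List.mem_range.2 he)
    simp only [Bool.or_eq_true, Bool.not_eq_true'] at h
    refine of_decide_eq_true (List.all_eq_true.1 (h.resolve_left ?_) i (List.mem_range.2 hi))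
    rw [Bool.not_eq_false, List.all_eq_true]
    intro a ha
    rw [List.all_eq_true]
    exact fun b hb => beq_iff_eq.2 (hc a (List.mem_range.1 ha) b (List.mem_range.1 hb))

theorem card_fixed_le {x : Equiv.Perm GolayPt} (hx : x ∈ sylT) (h2 : x * x = 1) (h1 : x ≠ 1) (S : Finset ℕ)
    (hlt : ∀ s ∈ S, s < 2048) (hfix : ∀ s ∈ S, act (code x) s = s) : S.card ≤ 128 := by
  calc S.card ≤ (spanL (kerStep (code x) ((List.range 11).map (2 ^ ·)))).toFinset.card :=
        Finset.card_le_card fun s hs =>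
          List.mem_toFinset.2 (kerStep_spec (mem_spanL_two_pow 11 s (hlt s hs)) (hfix s hs))
    _ ≤ 2 ^ 7 := (List.toFinset_card_le _).trans ((length_spanL _).le.trans
        (Nat.pow_le_pow_right (by norm_num) (lift_parts.1 _ (code_mem_invs hx h2 h1))))

/-- Every 2-subgroup of the Mathieu group moves into the fixed Sylow subgroup. -/
theorem exists_into_sylT {D : Subgroup ↥M24} (hD : IsPGroup 2 D) :
    ∃ g : ↥M24, ∀ x ∈ D, ((g * x * g⁻¹ : ↥M24) : Equiv.Perm GolayPt) ∈ sylT := by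
  haveI : Fact (Nat.Prime 2) := ⟨Nat.prime_two⟩
  have hc : Nat.card (sylT.subgroupOf M24) = 2 ^ (Nat.card M24).factorization 2 := by
    rw [Nat.card_congr (Subgroup.subgroupOfEquivOfLe sylT_le).toEquiv,
      factorization_two (a := 10) (m := 239085) (by rw [card_M24]; norm_num) (by norm_num)]
    exact card_pcGroup pc24 _ le_rfl
  let Q : Sylow 2 M24 := Sylow.ofCard _ hc
  obtain ⟨S, hS⟩ := hD.exists_le_sylow
  obtain ⟨g, hg⟩ := MulAction.exists_smul_eq (↥M24) S Q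
  refine ⟨g, fun x hx => ?_⟩
  have : g * x * g⁻¹ ∈ (Q : Subgroup ↥M24) := by
    rw [← hg, Sylow.coe_subgroup_smul, Subgroup.mem_pointwise_smul_iff_inv_smul_mem]
    simpa [MulAut.smul_def, MulAut.conj_symm_apply, mul_assoc] using hS hx
  rwa [Sylow.coe_ofCard] at this

theorem Ctx.classify_in_sylT {A : Subgroup G} (hA : A ≤ normalizer (V : Set G)) (hsq : ∀ a ∈ A, a * a = 1)
    (hcard : Nat.card A = 2 ^ 10) (hself : centralizer (A : Set G) ≤ A)
    (hT : ∀ a : A, ((X.φ ⟨a, hA a.2⟩ : ↥M24) : Equiv.Perm GolayPt) ∈ sylT) :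
    ∃ u : G, u ∈ V ∧ X.ten.map (MulAut.conj u).toMonoidHom = A := by
  let f : A →* Equiv.Perm GolayPt := M24.subtype.comp (X.φ.comp (Subgroup.inclusion hA))
  set D := f.range
  have hcomm : ∀ {a b : G}, a ∈ A → b ∈ A → a * b = b * a := fun {a b} ha hb => by
    have i := inv_eq_of_mul_eq_one_right (hsq _ (mul_mem ha hb))
    rwa [mul_inv_rev, inv_eq_of_mul_eq_one_right (hsq a ha), inv_eq_of_mul_eq_one_right (hsq b hb), eq_comm] at i
  have hDT : D ≤ sylT := by rintro _ ⟨a, rfl⟩; exact hT a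
  have hDsq : ∀ x ∈ D, x * x = 1 := by
    rintro _ ⟨a, rfl⟩
    rw [← map_mul, show a * a = 1 from Subtype.ext (hsq _ a.2), map_one]
  let Fix : Finset ℕ := (Finset.range 2048).filter fun s => X.nu s ∈ A
  have hFix : ∀ s, s ∈ Fix ↔ s < 2048 ∧ X.nu s ∈ A := fun s => by simp [Fix]
  have hfix : ∀ x ∈ D, ∀ s ∈ Fix, act (code x) s = s := by
    rintro _ ⟨a, rfl⟩ s hs
    obtain ⟨hs, hsA⟩ := (hFix s).1 hs
    refine X.nu_inj (act_lt _ _) hs ?_
    show X.nu (act (code ((X.φ ⟨a, hA a.2⟩ : ↥M24) : Equiv.Perm GolayPt)) s) = X.nu s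
    rw [← X.conj_nu _ hs]
    show (a : G) * X.nu s * (a : G)⁻¹ = X.nu s
    rw [hcomm a.2 hsA, mul_inv_cancel_right]
  have hker : Nat.card f.ker = Fix.card := by
    have hk : ∀ a : A, a ∈ f.ker ↔ (a : G) ∈ V := fun a => by
      rw [MonoidHom.mem_ker, ← X.L.ker ⟨a, hA a.2⟩]
      exact ⟨fun h => Subtype.ext h, fun h => congrArg Subtype.val h⟩
    let g : Fix → f.ker := fun s => ⟨⟨X.nu s, ((hFix _).1 s.2).2⟩, (hk _).2 (X.nu_mem _)⟩
    have hg : Function.Bijective g := by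
      refine ⟨fun s t e => Subtype.ext (X.nu_inj ((hFix _).1 s.2).1 ((hFix _).1 t.2).1
        (congrArg (fun a : f.ker => ((a : A) : G)) e)), fun a => ?_⟩
      obtain ⟨s, hs, e⟩ := X.nu_surj ((hk a.1).1 a.2)
      exact ⟨⟨s, (hFix s).2 ⟨hs, e.symm ▸ a.1.2⟩⟩, Subtype.ext (Subtype.ext e)⟩
    rw [← Nat.card_eq_of_bijective g hg, Nat.card_eq_fintype_card, Fintype.card_coe]
  have hDF : Nat.card D * Fix.card = 1024 := by
    have h := f.ker.card_mul_index
    rw [Subgroup.index_ker, hcard, hker] at h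
    rw [mul_comm]
    exact h
  have h2 : 2 < Nat.card D := by
    by_contra h
    push Not at h
    have hpos : 0 < Nat.card D := Nat.card_pos
    rcases (show Nat.card D = 1 ∨ Nat.card D = 2 by omega) with hD | hD
    · have hAV : A ≤ V := fun a ha => (X.L.ker ⟨a, hA ha⟩).1 (Subtype.ext (show f ⟨a, ha⟩ = 1 from
        (Subgroup.mem_bot.1 ((Subgroup.eq_bot_of_card_eq D hD) ▸ (⟨_, rfl⟩ : f ⟨a, ha⟩ ∈ D)))))
      have hVA : V ≤ A := fun v hv => hself (mem_centralizer_iff.2 fun a ha => X.C.comm (hAV ha) hv)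
      have := Subgroup.card_le_of_le hVA
      rw [X.C.card, hcard] at this
      norm_num at this
    · obtain ⟨x, hx, hx1⟩ := (Subgroup.bot_or_exists_ne_one D).resolve_left fun e => by
        rw [e, Subgroup.card_bot] at hD; omega
      have := card_fixed_le (hDT hx) (hDsq x hx) hx1 Fix (fun s hs => ((hFix s).1 hs).1) (hfix x hx)
      rw [hD] at hDF
      omega
  have hD0 := eq_fixL hDT hDsq h2 Fix (fun s hs => ((hFix s).1 hs).1) hfix hDF
  have hfelD : ∀ j : Fin 16, ((fel j : ↥M24) : Equiv.Perm GolayPt) ∈ D := fun j => by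
    rw [hD0, code_fel, List.getD_eq_getElem _ _ (show (j : ℕ) < fixL.length from j.2)]
    exact List.getElem_mem _
  have hWA : ∀ s ∈ wImg, X.nu s ∈ A := by
    intro s hs
    refine hself (mem_centralizer_iff.2 fun a ha => ?_)
    have hfa := (hD0 _).1 (⟨⟨a, ha⟩, rfl⟩ : f ⟨a, ha⟩ ∈ D)
    obtain ⟨i, hi, e⟩ := List.getElem_of_mem hfa
    have hact : act (code ((X.φ ⟨a, hA ha⟩ : ↥M24) : Equiv.Perm GolayPt)) s = s := by
      show act (code (f ⟨a, ha⟩)) s = s
      rw [← e, ← List.getD_eq_getElem _ 0 hi]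
      exact act_of_wImg hs hi
    have h := X.conj_nu ⟨a, hA ha⟩ (lt_of_wImg hs)
    rw [hact] at h
    exact mul_inv_eq_iff_eq_mul.1 h
  have hlift : ∀ j : Fin 16, ∃ c < 2048, X.elem c (fel j) ∈ A := by
    intro j
    obtain ⟨a, ha⟩ := hfelD j
    obtain ⟨c, hc, e⟩ := X.exists_elem (hA a.2)
    refine ⟨c, hc, ?_⟩
    rw [show fel j = X.φ ⟨a, hA a.2⟩ from Subtype.ext ha.symm, ← e]
    exact a.2
  choose c hc hcA using hlift
  set g : ℕ → ℕ := fun i => fixL.getD (2 ^ i) 0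
  set r : ℕ → ℕ := fun i => dif (g i) (fu.getD (2 ^ i) 0)
  let J : Fin 4 → Fin 16 := fun i => ⟨2 ^ (i : ℕ), by rcases i with ⟨i, hi⟩; interval_cases i <;> norm_num⟩
  have hgJ : ∀ i : Fin 4, code ((fel (J i) : ↥M24) : Equiv.Perm GolayPt) = g i := fun i => code_fel _
  have hfixc : ∀ i : Fin 4, act (g i) (c (J i)) = c (J i) := by
    intro i
    have h := hsq _ (hcA (J i))
    rw [X.elem_mul (hc _), hgJ, ← X.elem_one] at h
    have h' := (X.elem_inj (Nat.xor_lt_two_pow (n := 11) (hc _) (act_lt _ _)) (by norm_num) h).1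
    have := congrArg (c (J i) ^^^ ·) h'
    simpa [← Nat.xor_assoc] using this
  have heps : ∀ i : Fin 4, ∃ b : Bool, c (J i) ^^^ (if b then r i else 0) ∈ wImg := fun i => by
    rcases lift_parts.2.1 (2 ^ (i : ℕ)) (J i).2 (by positivity) _ (hc _) (hfixc i) with h | h
    · exact ⟨false, by simpa using h⟩
    · exact ⟨true, by simpa [r, g] using h⟩
  choose b hb using heps
  obtain ⟨e, he, heb⟩ : ∃ e < 16, ∀ i : Fin 4, e.testBit i = b i := by
    have hall : ∀ b : Fin 4 → Bool, ∃ e ∈ List.range 16, ∀ i : Fin 4, e.testBit i = b i := by decide +kernel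
    obtain ⟨e, he, h⟩ := hall b
    exact ⟨e, List.mem_range.1 he, h⟩
  have hceq : ∀ i k : Fin 4, (if b i then r i else 0) ^^^ act (g i) (if b k then r k else 0) =
      (if b k then r k else 0) ^^^ act (g k) (if b i then r i else 0) := by
    intro i k
    have h := hcomm (hcA (J i)) (hcA (J k))
    rw [X.elem_mul (hc _), X.elem_mul (hc _), hgJ, hgJ] at h
    have h' := (X.elem_inj (Nat.xor_lt_two_pow (n := 11) (hc _) (act_lt _ _))
      (Nat.xor_lt_two_pow (n := 11) (hc _) (act_lt _ _)) h).1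
    have wi := act_of_wImg (hb i) (J k).2
    have wk := act_of_wImg (hb k) (J i).2
    change act (g k) _ = _ at wi
    change act (g i) _ = _ at wk
    rw [act_xor] at wi wk
    set x := if b i then r i else 0
    set y := if b k then r k else 0
    have e1 : act (g i) y = act (g i) (c (J k)) ^^^ (c (J k) ^^^ y) := by
      conv_rhs => rw [← wk, ← Nat.xor_assoc, Nat.xor_self, Nat.zero_xor]
    have e2 : act (g k) x = act (g k) (c (J i)) ^^^ (c (J i) ^^^ x) := by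
      conv_rhs => rw [← wi, ← Nat.xor_assoc, Nat.xor_self, Nat.zero_xor]
    rw [e1, e2]
    calc x ^^^ (act (g i) (c (J k)) ^^^ (c (J k) ^^^ y))
        = (c (J i) ^^^ act (g i) (c (J k))) ^^^ (c (J i) ^^^ c (J k)) ^^^ (x ^^^ y) := by
          conv_rhs => rw [show c (J i) ^^^ act (g i) (c (J k)) ^^^ (c (J i) ^^^ c (J k)) ^^^ (x ^^^ y) =
            (c (J i) ^^^ c (J i)) ^^^ (x ^^^ (act (g i) (c (J k)) ^^^ (c (J k) ^^^ y))) by ac_rfl,
            Nat.xor_self, Nat.zero_xor]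
      _ = (c (J k) ^^^ act (g k) (c (J i))) ^^^ (c (J i) ^^^ c (J k)) ^^^ (x ^^^ y) := by rw [h']
      _ = y ^^^ (act (g k) (c (J i)) ^^^ (c (J i) ^^^ x)) := by
          rw [show c (J k) ^^^ act (g k) (c (J i)) ^^^ (c (J i) ^^^ c (J k)) ^^^ (x ^^^ y) =
            (c (J k) ^^^ c (J k)) ^^^ (y ^^^ (act (g k) (c (J i)) ^^^ (c (J i) ^^^ x))) by ac_rfl,
            Nat.xor_self, Nat.zero_xor]
  have hcob := lift_parts.2.2.2.1 e he (fun i hi k hk => by
    have := hceq ⟨i, hi⟩ ⟨k, hk⟩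
    simpa only [← heb] using this)
  set u := solV.getD e 0
  refine ⟨X.nu u, X.nu_mem u, ?_⟩
  refine Subgroup.eq_of_le_of_card_ge ?_ (by
    rw [card_map_of_injective (MulEquiv.injective _), X.card_ten, hcard])
  rintro _ ⟨_, ⟨n, hn, rfl⟩, rfl⟩
  show X.nu u * X.alpha n * (X.nu u)⁻¹ ∈ A
  refine xor_induction (n := 10) (P := fun n => X.nu u * X.alpha n * (X.nu u)⁻¹ ∈ A) ?_ ?_ ?_ n hn
  · simp [X.alpha_zero]
  · intro k hk
    by_cases hk6 : k < 6
    · have hp : fPart (2 ^ k) = 0 := Fin.ext (by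
        show (2 ^ k >>> 6) % 16 = 0
        rw [Nat.shiftRight_eq_div_pow, Nat.div_eq_of_lt (Nat.pow_lt_pow_right (by norm_num) hk6)])
      rw [Ctx.alpha, hp, fel_zero, Ctx.elem, map_one, mul_one, X.C.comm (X.nu_mem u) (X.nu_mem _),
        mul_inv_cancel_right]
      exact hWA _ (comb_wB_mem _)
    · obtain ⟨i, hi, rfl⟩ : ∃ i < 4, k = 6 + i := ⟨k - 6, by omega, by omega⟩
      have hp : fPart (2 ^ (6 + i)) = J ⟨i, hi⟩ := Fin.ext (by
        show (2 ^ (6 + i) >>> 6) % 16 = 2 ^ i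
        rw [Nat.shiftRight_eq_div_pow, pow_add, Nat.mul_div_cancel_left _ (by norm_num),
          Nat.mod_eq_of_lt (J ⟨i, hi⟩).2])
      have hw : c (J ⟨i, hi⟩) ^^^ dif (g i) u ∈ wImg := by
        have h1 := wImg_xor (hb ⟨i, hi⟩) (hcob i hi)
        rw [← heb ⟨i, hi⟩] at h1
        convert h1 using 1
        conv_rhs => rw [Nat.xor_assoc]
        congr 1
        show dif (g i) u = (if e.testBit i then r i else 0) ^^^ ((if e.testBit i then r i else 0) ^^^ dif (g i) u)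
        rw [← Nat.xor_assoc, Nat.xor_self, Nat.zero_xor]
      have hu : u < 2048 := lift_parts.2.2.2.2 e he
      have key : X.nu u * X.κ (fel (J ⟨i, hi⟩)) * (X.nu u)⁻¹ =
          X.nu (c (J ⟨i, hi⟩) ^^^ dif (g i) u) * X.elem (c (J ⟨i, hi⟩)) (fel (J ⟨i, hi⟩)) := by
        have hconj := X.conj_κ (fel (J ⟨i, hi⟩)) hu
        rw [hgJ] at hconj
        rw [Ctx.elem, ← mul_assoc, ← X.nu_xor,
          show c (J ⟨i, hi⟩) ^^^ dif (g i) u ^^^ c (J ⟨i, hi⟩) = u ^^^ act (g i) u by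
            rw [dif, Nat.xor_comm (c _), Nat.xor_assoc, Nat.xor_self, Nat.xor_zero, Nat.xor_comm],
          X.nu_xor, ← hconj, inv_eq_of_mul_eq_one_right (X.nu_sq u)]
        simp [mul_assoc]
      rw [Ctx.alpha, hp, comb_mod, w_parts.2.1, pow_add, Nat.mul_mod_right, comb_zero, Ctx.elem, X.nu_zero,
        one_mul, key]
      exact mul_mem (hWA _ hw) (hcA _)
  · intro a b _ _ ha hb'
    show X.nu u * X.alpha (a ^^^ b) * (X.nu u)⁻¹ ∈ A
    rw [X.alpha_xor, ← J4Eleven.conj_mul]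
    exact mul_mem ha hb'

/-- Every such subgroup is conjugate to the standard one inside the normaliser of `V`. -/
theorem Ctx.classify {A : Subgroup G} (hA : A ≤ normalizer (V : Set G)) (hsq : ∀ a ∈ A, a * a = 1)
    (hcard : Nat.card A = 2 ^ 10) (hself : centralizer (A : Set G) ≤ A) :
    ∃ m ∈ normalizer (V : Set G), X.ten.map (MulAut.conj m).toMonoidHom = A := by
  let f : A →* ↥M24 := X.φ.comp (Subgroup.inclusion hA)
  have hp : IsPGroup 2 f.range := fun x => ⟨1, Subtype.ext (by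
    obtain ⟨_, a, rfl⟩ := x
    rw [pow_one, SubgroupClass.coe_pow, pow_two]
    show f a * f a = 1
    rw [← map_mul, show a * a = 1 from Subtype.ext (hsq _ a.2), map_one])⟩
  obtain ⟨g, hg⟩ := exists_into_sylT hp
  set m0 := X.κ g
  set A1 := A.map (MulAut.conj m0).toMonoidHom
  have hA1 : A1 ≤ normalizer (V : Set G) := by
    rintro _ ⟨a, ha, rfl⟩
    exact mul_mem (mul_mem (X.κN g) (hA ha)) (inv_mem (X.κN g))
  have hsq1 : ∀ a ∈ A1, a * a = 1 := by
    rintro _ ⟨a, ha, rfl⟩; rw [← map_mul, hsq a ha, map_one]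
  have hc1 : Nat.card A1 = 2 ^ 10 := by rw [card_map_of_injective (MulEquiv.injective _), hcard]
  have hs1 : centralizer (A1 : Set G) ≤ A1 := fun x hx => by
    refine ⟨m0⁻¹ * x * m0, hself (mem_centralizer_iff.2 fun a ha => ?_), by simp [mul_assoc]⟩
    have := mem_centralizer_iff.1 hx (m0 * a * m0⁻¹) ⟨a, ha, rfl⟩
    calc a * (m0⁻¹ * x * m0) = m0⁻¹ * (m0 * a * m0⁻¹ * x) * m0 := by group
      _ = m0⁻¹ * x * m0 * a := by rw [this]; group
  obtain ⟨u, hu, hmap⟩ := X.classify_in_sylT hA1 hsq1 hc1 hs1 (by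
    rintro ⟨_, a, ha, rfl⟩
    have := hg (f ⟨a, ha⟩) ⟨_, rfl⟩
    have e : X.φ ⟨m0 * a * m0⁻¹, hA1 ⟨a, ha, rfl⟩⟩ = g * f ⟨a, ha⟩ * g⁻¹ := by
      have hmul : (⟨m0 * a * m0⁻¹, hA1 ⟨a, ha, rfl⟩⟩ : normalizer (V : Set G)) =
          ⟨m0, X.κN g⟩ * ⟨a, hA ha⟩ * ⟨m0, X.κN g⟩⁻¹ := rfl
      rw [hmul, map_mul, map_mul, map_inv, X.κφ]
      rfl
    rw [← e] at this
    exact this)
  refine ⟨m0⁻¹ * u, mul_mem (inv_mem (X.κN g)) (le_normalizer hu), ?_⟩
  rw [show (MulAut.conj (m0⁻¹ * u)).toMonoidHom = (MulAut.conj m0⁻¹).toMonoidHom.comp (MulAut.conj u).toMonoidHom from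
      MonoidHom.ext fun x => by simp [mul_assoc],
    ← Subgroup.map_map, hmap, Subgroup.map_map]
  conv_rhs => rw [← Subgroup.map_id A]
  congr 1
  exact MonoidHom.ext fun x => by simp [mul_assoc]

end CfsgLib.J4Ten
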