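import Cfsg.Agent.J4Ten.DataOrbit
import Cfsg.Agent.J4Ten.Ten

/-!
The elements normalising both `V` and the standard subgroup, and their four orbits on the latter.
-/

set_option autoImplicit false
set_option maxRecDepth 100000
set_option linter.style.haveILetI false
set_option linter.unusedSectionVars false

namespace CfsgLib.J4Ten

open Cfsg CfsgLib.Golay CfsgLib.Golay.SylowCert CfsgLib.J4Eleven Subgroup MulAction
open scoped Pointwise

attribute [local instance] Classical.propDecidable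

variable {G : Type*} [Group G] [Finite G] {z : G} {V : Subgroup G} (X : Ctx z V)

/-- The common normaliser. -/
noncomputable def Ctx.loc2 : Subgroup G := normalizer (V : Set G) ⊓ normalizer (X.ten : Set G)

theorem Ctx.mem_normalizer_of_le {g : G} (h : ∀ a ∈ X.ten, g * a * g⁻¹ ∈ X.ten) :
    g ∈ normalizer (X.ten : Set G) := by
  refine map_conj_mem (Subgroup.eq_of_le_of_card_ge ?_ (card_map_of_injective (MulEquiv.injective _)).ge)
  rintro _ ⟨a, ha, rfl⟩
  exact h a ha

theorem fix_conj {σ : ↥M24} (hσ : σ ∈ stabilizer M24 octPts) (j : Fin 16) :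
    ∃ k, fel k = σ * fel j * σ⁻¹ := by
  refine exists_fel fun p hp => ?_
  have hp' : (σ : Equiv.Perm GolayPt)⁻¹ p ∈ octPts := by
    have h1 : σ⁻¹ • octPts = octPts := by rw [inv_smul_eq_iff, mem_stabilizer_iff.1 hσ]
    rw [← h1, smul_finset_eq_image]
    exact Finset.mem_image.2 ⟨p, hp, rfl⟩
  show (σ : Equiv.Perm GolayPt) ((fel j : Equiv.Perm GolayPt) ((σ : Equiv.Perm GolayPt)⁻¹ p)) = p
  rw [fel_fix j hp']
  simp

theorem Ctx.κ_normalizes {σ : ↥M24} (hσ : σ ∈ stabilizer M24 octPts) :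
    X.κ σ ∈ normalizer (X.ten : Set G) := by
  refine X.mem_normalizer_of_le ?_
  rintro _ ⟨n, hn, rfl⟩
  rw [Ctx.alpha, Ctx.elem, ← J4Eleven.conj_mul, X.conj_κ σ (wB_lt n), ← map_inv, ← map_mul, ← map_mul]
  obtain ⟨k, hk⟩ := fix_conj hσ (fPart n)
  refine mul_mem (X.nu_mem_ten (mem_wImg_of_fixed (act_lt _ _) fun j hj => ?_)) (hk ▸ X.κ_fel_mem k)
  obtain ⟨i, hi⟩ := fix_conj (inv_mem hσ) ⟨j, hj⟩
  rw [inv_inv] at hi
  rw [← code_fel ⟨j, hj⟩, ← X.act_mul _ _ (wB_lt n),
    show fel ⟨j, hj⟩ * σ = σ * fel i by rw [hi]; group, X.act_mul _ _ (wB_lt n), code_fel, act_wB i.2]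

theorem dif_of_inU {u : ℕ} (hu : u < 2048) (h : inU u = true) {j : ℕ} (hj : j < 16) :
    dif (fixL.getD j 0) u ∈ wImg := by
  obtain ⟨n, -, rfl⟩ := exists_uB hu h
  exact dif_uB hj n

theorem Ctx.nu_conj_elem {u s : ℕ} (hu : u < 2048) (σ : ↥M24) :
    X.nu u * X.elem s σ * (X.nu u)⁻¹ = X.elem (s ^^^ dif (code (σ : Equiv.Perm GolayPt)) u) σ := by
  rw [inv_eq_of_mul_eq_one_right (X.nu_sq u), dif, Ctx.elem, Ctx.elem,
    show s ^^^ (act (code (σ : Equiv.Perm GolayPt)) u ^^^ u) = u ^^^ s ^^^ act (code (σ : Equiv.Perm GolayPt)) u by ac_rfl,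
    X.nu_xor, X.nu_xor, ← X.conj_κ σ hu]
  simp [mul_assoc]

theorem Ctx.nu_normalizes {u : ℕ} (hu : u < 2048) (h : inU u = true) : X.nu u ∈ normalizer (X.ten : Set G) := by
  refine X.mem_normalizer_of_le ?_
  rintro _ ⟨n, hn, rfl⟩
  rw [Ctx.alpha, X.nu_conj_elem hu, code_fel, Ctx.elem]
  exact mul_mem (X.nu_mem_ten (wImg_xor (comb_wB_mem n) (dif_of_inU hu h (fPart n).2))) (X.κ_fel_mem _)

theorem Ctx.elem_mem_loc2 {u : ℕ} (hu : u < 2048) (h : inU u = true) {σ : ↥M24}
    (hσ : σ ∈ stabilizer M24 octPts) : X.elem u σ ∈ X.loc2 :=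
  mem_inf.2 ⟨X.elem_mem u σ, mul_mem (X.nu_normalizes hu h) (X.κ_normalizes hσ)⟩

theorem Ctx.exists_of_loc2 {g : G} (hg : g ∈ X.loc2) :
    ∃ u < 2048, inU u = true ∧ ∃ σ ∈ stabilizer M24 octPts, g = X.elem u σ := by
  obtain ⟨hgV, hgA⟩ := mem_inf.1 hg
  obtain ⟨u, hu, e⟩ := X.exists_elem hgV
  set σ := X.φ ⟨g, hgV⟩ with hσdef
  have hconj : ∀ j, ∃ k, fel k = σ * fel j * σ⁻¹ := by
    intro j
    obtain ⟨n, -, hn⟩ := (mem_normalizer_iff.1 hgA _).1 (X.κ_fel_mem j)
    refine ⟨fPart n, ?_⟩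
    have hm : (⟨X.alpha n, X.alpha_mem n⟩ : normalizer (V : Set G)) =
        ⟨g, hgV⟩ * ⟨X.κ (fel j), X.κN _⟩ * ⟨g, hgV⟩⁻¹ := Subtype.ext hn
    have := congrArg X.φ hm
    rw [map_mul, map_mul, map_inv, X.κφ] at this
    exact (X.φ_elem _ _).symm.trans this
  have hσ : σ ∈ stabilizer M24 octPts := by
    rw [mem_stabilizer_iff, smul_finset_eq_image]
    refine Finset.eq_of_subset_of_card_le (fun p hp => ?_) (Finset.card_image_of_injective _ (Equiv.injective _)).ge
    obtain ⟨q, hq, rfl⟩ := Finset.mem_image.1 hp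
    by_contra hne
    obtain ⟨j, hj⟩ := exists_moved hne
    have hinv : σ⁻¹ * fel j * σ ∈ Set.range fel := by
      have hinj : Function.Injective fun i => (hconj i).choose := fun a b h => by
        have := congrArg fel h
        rw [(hconj a).choose_spec, (hconj b).choose_spec] at this
        exact fel_injective (mul_left_cancel (mul_right_cancel this))
      obtain ⟨i, hi⟩ := (Finite.injective_iff_surjective.1 hinj) j
      exact ⟨i, by rw [← hi, (hconj i).choose_spec]; group⟩
    obtain ⟨i, hi⟩ := hinv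
    refine hj ?_
    have h1 := fel_fix i hq
    rw [hi] at h1
    have h2 : (σ : Equiv.Perm GolayPt)⁻¹ ((fel j : Equiv.Perm GolayPt) ((σ : Equiv.Perm GolayPt) q)) = q := h1
    exact Equiv.Perm.inv_eq_iff_eq.1 h2
  refine ⟨u, hu, inU_iff.2 fun j hj => ?_, σ, hσ, e⟩
  have hj16 : j < 16 := by simp only [List.mem_cons, List.not_mem_nil, or_false] at hj; omega
  have hνN : X.nu u ∈ normalizer (X.ten : Set G) := by
    have : g * (X.κ σ)⁻¹ = X.nu u := by rw [e, Ctx.elem, mul_inv_cancel_right]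
    rw [← this]
    exact mul_mem hgA (inv_mem (X.κ_normalizes hσ))
  obtain ⟨n, -, hn⟩ := (mem_normalizer_iff.1 hνN _).1 (X.κ_fel_mem ⟨j, hj16⟩)
  have h0 : X.κ (fel ⟨j, hj16⟩) = X.elem 0 (fel ⟨j, hj16⟩) := by rw [Ctx.elem, X.nu_zero, one_mul]
  rw [h0, X.nu_conj_elem hu, code_fel, Nat.zero_xor, Ctx.alpha] at hn
  obtain ⟨h1, -⟩ := X.elem_inj (wB_lt n) (dif_lt _ hu) hn
  exact h1 ▸ comb_wB_mem n

theorem Ctx.card_loc2 : Nat.card X.loc2 = 2 ^ 10 * 322560 := by
  let U := {u : Fin 2048 // inU u = true}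
  have hU : Nat.card U = 2 ^ 10 := by
    let f : Fin 1024 → U := fun n => ⟨⟨comb uB n, uB_lt n⟩, inU_comb n⟩
    have hf : Function.Bijective f := by
      refine ⟨fun a b e => ?_, fun u => ?_⟩
      · have h := congrArg (fun x : U => x.1.1) e
        have hn := w_parts.2.2.2.2.2.2.2.1
        have hl : ∀ x : Fin 1024, (x : ℕ) < ((List.range 1024).map (comb uB)).length := fun x => by simp
        exact Fin.ext ((hn.getElem_inj_iff (hi := hl a) (hj := hl b)).1 (by simpa using h))
      · obtain ⟨n, hn, e⟩ := exists_uB u.1.2 u.2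
        exact ⟨⟨n, hn⟩, Subtype.ext (Fin.ext e)⟩
    rw [← Nat.card_eq_of_bijective f hf, Nat.card_fin]
    norm_num
  let f : U × stabilizer M24 octPts → X.loc2 := fun p =>
    ⟨X.elem p.1.1 p.2, X.elem_mem_loc2 p.1.1.2 p.1.2 p.2.2⟩
  have hf : Function.Bijective f := by
    refine ⟨fun a b e => ?_, fun g => ?_⟩
    · obtain ⟨h1, h2⟩ := X.elem_inj a.1.1.2 b.1.1.2 (congrArg Subtype.val e)
      exact Prod.ext (Subtype.ext (Fin.ext h1)) (Subtype.ext h2)
    · obtain ⟨u, hu, hU, σ, hσ, e⟩ := X.exists_of_loc2 g.2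
      exact ⟨(⟨⟨u, hu⟩, hU⟩, ⟨σ, hσ⟩), Subtype.ext e.symm⟩
  rw [← Nat.card_eq_of_bijective f hf, Nat.card_prod, hU, Cert.card_stab_octad octPts_mem]

/-! ### The orbits -/

/-- The translation part of a generator. -/
def genU (g : ℕ) : ℕ := if g < 10 then uB.getD g 0 else 0

/-- The permutation part of a generator. -/
def genL (g : ℕ) : List ℕ :=
  if g < 10 then List.range 24 else if g < 20 then m24Pc.getD (g - 10) [] else stabExtra

theorem gen_spec : ((List.range 21).all fun g =>
    decide (genU g < 2048) && inU (genU g) && decide (Good (genL g)) && ((genL g).length == 24) &&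
    (rows.all fun r => word (permMask (genL g) r 24 % 4096) == permMask (genL g) r 24) && (Cert.permF (genL g) octMask == octMask) &&
    (List.range 10).all fun k =>
      let F := encL (genL g)
      let m := (genCols.getD g []).getD k 0
      let f := fixL.getD ((2 ^ k >>> 6) % 16) 0
      let f' := fixL.getD ((m >>> 6) % 16) 0
      decide (m < 1024) && (comp F f == comp f' F) &&
        ((genU g ^^^ act F (comb wB (2 ^ k))) == (comb wB m ^^^ act f' (genU g)))) = true := by
  decide +kernel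

theorem genCols_lt (g : ℕ) (hg : g < 21) : ∀ b ∈ genCols.getD g [], b < 2 ^ 10 := by
  have h : ((List.range 21).all fun g => (genCols.getD g []).all fun b => decide (b < 2 ^ 10)) = true := by
    decide +kernel
  intro b hb
  exact of_decide_eq_true (List.all_eq_true.1 (List.all_eq_true.1 h g (List.mem_range.2 hg)) b hb)

theorem Ctx.exists_gen {g : ℕ} (hg : g < 21) :
    ∃ x ∈ X.loc2, ∀ n < 1024, x * X.alpha n * x⁻¹ = X.alpha (comb (genCols.getD g []) n) := by
  have h := List.all_eq_true.1 gen_spec g (List.mem_range.2 hg)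
  simp only [Bool.and_eq_true, decide_eq_true_eq, beq_iff_eq, List.all_eq_true, List.mem_range] at h
  obtain ⟨⟨⟨⟨⟨⟨hu, hU⟩, hgood⟩, hlen⟩, hpres⟩, hoct⟩, hcols⟩ := h
  let σ : ↥M24 := ⟨permL (genL g), permL_mem_M24 hgood hlen (fun r hr => hpres r hr)⟩
  have hlist : toList (σ : Equiv.Perm GolayPt) = genL g := toList_permL hgood hlen
  have hσ : σ ∈ stabilizer M24 octPts := by
    rw [mem_stabilizer_iff, smul_finset_eq_image, octPts, ← Cert.pts_permF, hlist, hoct]
  refine ⟨X.elem (genU g) σ, X.elem_mem_loc2 hu hU hσ, ?_⟩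
  refine xor_ext (n := 10) ?_ ?_ ?_ ?_
  · simp [X.alpha_zero, comb_zero]
  · intro k hk
    obtain ⟨⟨hm, hc⟩, hs⟩ := hcols k hk
    show X.elem (genU g) σ * X.alpha (2 ^ k) * (X.elem (genU g) σ)⁻¹ = X.alpha (comb _ (2 ^ k))
    rw [comb_two_pow]
    set m := (genCols.getD g []).getD k 0
    rw [mul_inv_eq_iff_eq_mul, Ctx.alpha, Ctx.alpha, X.elem_mul (wB_lt _), X.elem_mul hu]
    have hσcode : code (σ : Equiv.Perm GolayPt) = encL (genL g) := by rw [code, hlist]
    rw [hσcode, code_fel]
    have hsh : ∀ x : ℕ, (x >>> 6) % 16 = (fPart x : ℕ) := fun x => rfl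
    rw [hsh, hsh] at hc
    rw [hsh] at hs
    have hperm : σ * fel (fPart (2 ^ k)) = fel (fPart m) * σ := Subtype.ext (code_injective (by
      rw [Subgroup.coe_mul, Subgroup.coe_mul, ← comp_code, ← comp_code, code_fel, code_fel, hσcode]
      exact hc))
    rw [hs, hperm]
  · intro a b _ _
    show X.elem (genU g) σ * X.alpha (a ^^^ b) * (X.elem (genU g) σ)⁻¹ = _
    rw [X.alpha_xor, J4Eleven.conj_mul]
  · intro a b _ _
    show X.alpha (comb _ (a ^^^ b)) = _
    rw [comb_xor, X.alpha_xor]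

/-- The bit set reached by a walk. -/
def runWalk (w : List (ℕ × ℕ)) (S : ℕ) : Option ℕ :=
  match w with
  | [] => some S
  | (v, g) :: rest =>
    if S.testBit v && decide (g < 21) && decide (v < 1024) then
      runWalk rest (S ||| (1 <<< comb (genCols.getD g []) v)) else none

/-- Conjugacy under the common normaliser. -/
def Ctx.Rel (a b : G) : Prop := ∃ x ∈ X.loc2, x * a * x⁻¹ = b

theorem Ctx.rel_symm {a b : G} (h : X.Rel a b) : X.Rel b a := by
  obtain ⟨x, hx, rfl⟩ := h
  exact ⟨x⁻¹, inv_mem hx, by group⟩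

theorem Ctx.rel_trans {a b c : G} (h : X.Rel a b) (h' : X.Rel b c) : X.Rel a c := by
  obtain ⟨x, hx, rfl⟩ := h
  obtain ⟨y, hy, rfl⟩ := h'
  exact ⟨y * x, mul_mem hy hx, by group⟩

theorem Ctx.runWalk_sound (a : G) : ∀ (w : List (ℕ × ℕ)) (S R : ℕ), runWalk w S = some R →
    (∀ n, S.testBit n = true → X.Rel a (X.alpha n)) → ∀ n, R.testBit n = true → X.Rel a (X.alpha n) := by
  intro w
  induction w with
  | nil => intro S R h hS; simp only [runWalk, Option.some.injEq] at h; exact h ▸ hS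
  | cons p rest ih =>
    intro S R h hS
    obtain ⟨v, g⟩ := p
    simp only [runWalk] at h
    split at h
    · rename_i hc
      simp only [Bool.and_eq_true, decide_eq_true_eq] at hc
      refine ih _ _ h fun n hn => ?_
      rw [Nat.testBit_or, Bool.or_eq_true] at hn
      rcases hn with hn | hn
      · exact hS n hn
      · rw [Nat.one_shiftLeft, Nat.testBit_two_pow, decide_eq_true_eq] at hn
        obtain ⟨x, hx, hxe⟩ := X.exists_gen hc.1.2
        exact hn ▸ X.rel_trans (hS v hc.1.1) ⟨x, hx, hxe v hc.2⟩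
    · simp at h

theorem walks :
    runWalk walkA (1 <<< startA) = some orbitA ∧ runWalk walkB (1 <<< startB) = some orbitB ∧
    runWalk walkC (1 <<< startC) = some orbitC ∧ runWalk walkD (1 <<< startD) = some orbitD :=
  ⟨by decide +kernel, by decide +kernel, by decide +kernel, by decide +kernel⟩

/-- The class of a coordinate vector read from the four orbits. -/
def classB (n : ℕ) : Bool :=
  if n == 0 then !(orbitA.testBit n || orbitB.testBit n || orbitC.testBit n || orbitD.testBit n)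
  else if orbitA.testBit n then
    decide (n < 64) && isDuad (comb wB n) && !orbitB.testBit n && !orbitC.testBit n && !orbitD.testBit n
  else if orbitB.testBit n then decide (n < 64) && !isDuad (comb wB n) && !orbitC.testBit n && !orbitD.testBit n
  else decide (64 ≤ n) && xor (orbitC.testBit n) (orbitD.testBit n)

theorem classB_all : (List.range 1024).all classB = true := by decide +kernel

theorem orbit_lengths :
    ((List.range 1024).filter fun n => orbitA.testBit n).length = 28 ∧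
    ((List.range 1024).filter fun n => orbitB.testBit n).length = 35 ∧
    ((List.range 1024).filter fun n => orbitC.testBit n).length = 120 ∧
    ((List.range 1024).filter fun n => orbitD.testBit n).length = 840 :=
  ⟨by decide +kernel, by decide +kernel, by decide +kernel, by decide +kernel⟩

theorem orbit_starts :
    orbitA.testBit startA = true ∧ orbitB.testBit startB = true ∧ orbitC.testBit startC = true ∧
    orbitD.testBit startD = true :=
  ⟨by decide +kernel, by decide +kernel, by decide +kernel, by decide +kernel⟩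

end CfsgLib.J4Ten
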