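import Cfsg.Agent.J4Ten.Classify
import Cfsg.Agent.Golay.Complement
import Cfsg.Agent.Golay.M24SylowTwo
import Cfsg.Agent.Golay.OctadStab

/-!
The standard elementary subgroup of order `2 ^ 10` in the normaliser of `V`.
-/

set_option autoImplicit false
set_option maxRecDepth 100000
set_option linter.style.haveILetI false
set_option linter.unusedSectionVars false

namespace CfsgLib.J4Ten

open Cfsg CfsgLib.Golay CfsgLib.Golay.SylowCert CfsgLib.J4Eleven Subgroup MulAction
open scoped Pointwise

attribute [local instance] Classical.propDecidable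

/-- A predicate closed under exclusive or holds below a power of two once it holds on the powers. -/
theorem xor_induction {P : ℕ → Prop} {n : ℕ} (h0 : P 0) (hb : ∀ k < n, P (2 ^ k))
    (hx : ∀ a b, a < 2 ^ n → b < 2 ^ n → P a → P b → P (a ^^^ b)) : ∀ s < 2 ^ n, P s := by
  intro s hs
  have key : ∀ j ≤ n, ∀ t < 2 ^ j, P t := by
    intro j
    induction j with
    | zero => intro _ t ht; rw [pow_zero, Nat.lt_one_iff] at ht; rw [ht]; exact h0
    | succ j ih =>
      intro hj t ht
      have hjn : j ≤ n := Nat.le_of_succ_le hj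
      by_cases hlt : t < 2 ^ j
      · exact ih hjn t hlt
      have h1 : t ^^^ 2 ^ j < 2 ^ j := by
        refine Nat.lt_pow_two_of_testBit _ fun i hi => ?_
        rw [Nat.testBit_xor, Nat.testBit_two_pow]
        rcases Nat.eq_or_lt_of_le hi with rfl | hi'
        · rw [Nat.testBit_of_two_pow_le_and_two_pow_add_one_gt (by omega) ht]
          simp
        · rw [Nat.testBit_lt_two_pow (lt_of_lt_of_le ht (Nat.pow_le_pow_right (by norm_num) hi'))]
          simp [Nat.ne_of_lt hi']
      have h2 : 2 ^ j < 2 ^ n := Nat.pow_lt_pow_right (by norm_num) hj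
      have := hx _ _ (h1.trans h2) h2 (ih hjn _ h1) (hb j hj)
      rwa [Nat.xor_assoc, Nat.xor_self, Nat.xor_zero] at this
  exact key n le_rfl s hs

theorem comb_mod : ∀ (L : List ℕ) (s : ℕ), comb L s = comb L (s % 2 ^ L.length) := by
  intro L
  induction L with
  | nil => intro s; simp [comb]
  | cons a l ih =>
    intro s
    simp only [comb, List.length_cons]
    simp only [pow_succ', Nat.mod_mul_right_mod, Nat.mod_mul_right_div_self, ← ih]

theorem act_comb (F : ℕ) : ∀ (L : List ℕ) (s : ℕ), act F (comb L s) = comb (L.map (act F)) s := by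
  intro L
  induction L with
  | nil => intro s; simp [comb, act_zero]
  | cons a l ih =>
    intro s
    rw [comb, act_xor, ih, List.map_cons, comb]
    split <;> simp [act_zero]

theorem dif_comb (F : ℕ) : ∀ (L : List ℕ) (s : ℕ), dif F (comb L s) = comb (L.map (dif F)) s := by
  intro L
  induction L with
  | nil => intro s; simp [comb, dif, act_zero]
  | cons a l ih =>
    intro s
    rw [comb, dif_xor, ih, List.map_cons, comb]
    split <;> simp [dif, act_zero]

/-! ### The octad group -/

/-- The list of an element of the pointwise stabiliser. -/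
def fLst (j : ℕ) : List ℕ := (els m24Pc m24Pc.length).getD (fixN.getD j 0) []

theorem fLst_spec : ((List.range 16).all fun j => decide (fixN.getD j 0 < 1024) && decide (Good (fLst j)) &&
    ((fLst j).length == 24) && (encL (fLst j) == fixL.getD j 0)) = true := by decide +kernel

theorem m24Pc_preserves : ∀ L ∈ m24Pc, PreservesCode L := by unfold PreservesCode; decide +kernel

theorem sylT_le : sylT ≤ M24 :=
  pcGroup_le pc24 fun g hg => permL_mem_M24 (pc24.1 g hg).1 (pc24.1 g hg).2 (m24Pc_preserves g hg)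

/-- The permutation with a given index in the pointwise stabiliser. -/
def fPerm (j : ℕ) : Equiv.Perm GolayPt := permL (fLst j)

theorem code_fPerm {j : ℕ} (hj : j < 16) : code (fPerm j) = fixL.getD j 0 := by
  have h := List.all_eq_true.1 fLst_spec j (List.mem_range.2 hj)
  simp only [Bool.and_eq_true, decide_eq_true_eq, beq_iff_eq] at h
  rw [code, fPerm, toList_permL h.1.1.2 h.1.2, h.2]

theorem fPerm_mem {j : ℕ} (hj : j < 16) : fPerm j ∈ sylT := by
  have h := List.all_eq_true.1 fLst_spec j (List.mem_range.2 hj)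
  simp only [Bool.and_eq_true, decide_eq_true_eq, beq_iff_eq] at h
  refine (mem_pcGroup pc24 _ le_rfl _).2 ?_
  rw [fPerm, toList_permL h.1.1.2 h.1.2, fLst,
    List.getD_eq_getElem _ _ (by rw [length_els]; exact h.1.1.1)]
  exact List.getElem_mem _

/-- The element with a given index in the pointwise stabiliser. -/
def fel (j : Fin 16) : ↥M24 := ⟨fPerm j, sylT_le (fPerm_mem j.2)⟩

theorem code_fel (j : Fin 16) : code ((fel j : ↥M24) : Equiv.Perm GolayPt) = fixL.getD j 0 := code_fPerm j.2

theorem fixL_spec :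
    (((List.range 16).map fun j => fixL.getD j 0) == fixL) &&
    decide fixL.Nodup &&
    ((List.range 16).all fun a => (List.range 16).all fun b =>
      comp (fixL.getD a 0) (fixL.getD b 0) == fixL.getD (a ^^^ b) 0) &&
    ((List.range 16).all fun a => (List.range 24).all fun i =>
      !octMask.testBit i || get (fixL.getD a 0) i == i) &&
    ((List.range 24).all fun i => octMask.testBit i || (List.range 16).any fun a => get (fixL.getD a 0) i != i) &&
    ((word (octMask % 4096) == octMask) && (wt 24 octMask == 8)) = true := by decide +kernel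

theorem fixL_parts :
    ((List.range 16).map fun j => fixL.getD j 0) = fixL ∧ fixL.Nodup ∧
    (∀ a < 16, ∀ b < 16, comp (fixL.getD a 0) (fixL.getD b 0) = fixL.getD (a ^^^ b) 0) ∧
    (∀ a < 16, ∀ i < 24, octMask.testBit i = true → get (fixL.getD a 0) i = i) ∧
    (∀ i < 24, octMask.testBit i = false → ∃ a < 16, get (fixL.getD a 0) i ≠ i) ∧
    word (octMask % 4096) = octMask ∧ wt 24 octMask = 8 := by
  have h := fixL_spec
  simp only [Bool.and_eq_true, decide_eq_true_eq, beq_iff_eq, List.all_eq_true, List.mem_range, Bool.or_eq_true,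
    List.any_eq_true, bne_iff_ne, Bool.not_eq_true'] at h
  obtain ⟨⟨⟨⟨⟨h1, h2⟩, h3⟩, h4⟩, h5⟩, h6⟩ := h
  exact ⟨h1, h2, h3, fun a ha i hi hb => (h4 a ha i hi).resolve_left (by simp [hb]),
    fun i hi hb => (h5 i hi).resolve_left (by simp [hb]), h6⟩

/-- The octad. -/
def octPts : Finset GolayPt := pts octMask

theorem octPts_mem : octPts ∈ octads :=
  (mem_octads_iff _).2 ⟨octMask % 4096, Nat.mod_lt _ (by norm_num),
    (congrArg (wt 24) fixL_parts.2.2.2.2.2.1).trans fixL_parts.2.2.2.2.2.2,
    (congrArg pts fixL_parts.2.2.2.2.2.1).symm⟩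

theorem mem_octPts {p : GolayPt} : p ∈ octPts ↔ octMask.testBit (idx p) = true := by simp [octPts, pts]

theorem fel_mul (a b : Fin 16) (c : Fin 16) (hc : (c : ℕ) = (a : ℕ) ^^^ b) : fel a * fel b = fel c :=
  Subtype.ext (code_injective (by
    rw [Subgroup.coe_mul, ← comp_code, code_fel, code_fel, code_fel, hc]
    exact fixL_parts.2.2.1 a a.2 b b.2))

theorem fel_injective : Function.Injective fel := fun a b h => by
  have e : fixL.getD a 0 = fixL.getD b 0 := by rw [← code_fel, ← code_fel, h]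
  have hl : fixL.length = 16 := rfl
  rw [List.getD_eq_getElem _ _ (hl.symm ▸ a.2), List.getD_eq_getElem _ _ (hl.symm ▸ b.2)] at e
  exact Fin.ext ((fixL_parts.2.1.getElem_inj_iff).1 e)

theorem fel_fix (j : Fin 16) {p : GolayPt} (hp : p ∈ octPts) : ((fel j : ↥M24) : Equiv.Perm GolayPt) p = p := by
  have h := fixL_parts.2.2.2.1 j j.2 (idx p) (idx_lt p) (mem_octPts.1 hp)
  rw [← code_fel, get_code _ (idx_lt p), pt_idx] at h
  exact idx_injective h

/-- The elements fixing the octad pointwise are the sixteen. -/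
theorem exists_fel {σ : ↥M24} (h : ∀ p ∈ octPts, (σ : Equiv.Perm GolayPt) p = p) : ∃ j, fel j = σ := by
  let f : Fin 16 → ↥(M24 ⊓ fixingSubgroup (Equiv.Perm GolayPt) (octPts : Set GolayPt)) := fun j =>
    ⟨(fel j).1, (fel j).2, (mem_fixingSubgroup_iff (Equiv.Perm GolayPt)).mpr fun p hp => fel_fix j hp⟩
  have hf : Function.Injective f := fun a b e =>
    fel_injective (Subtype.ext (congrArg (fun x : ↥(M24 ⊓ _) => (x : Equiv.Perm GolayPt)) e))
  obtain ⟨j, hj⟩ := ((Nat.bijective_iff_injective_and_card f).2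
    ⟨hf, by rw [(octad_fixing octPts_mem).1, Nat.card_fin]⟩).2
      ⟨σ.1, σ.2, (mem_fixingSubgroup_iff (Equiv.Perm GolayPt)).mpr h⟩
  exact ⟨j, Subtype.ext (congrArg (fun x : ↥(M24 ⊓ _) => (x : Equiv.Perm GolayPt)) hj)⟩

theorem exists_moved {p : GolayPt} (hp : p ∉ octPts) :
    ∃ j, ((fel j : ↥M24) : Equiv.Perm GolayPt) p ≠ p := by
  obtain ⟨a, ha, h⟩ := fixL_parts.2.2.2.2.1 (idx p) (idx_lt p) (by rwa [mem_octPts, Bool.not_eq_true] at hp)
  refine ⟨⟨a, ha⟩, fun e => h ?_⟩
  rw [← code_fel ⟨a, ha⟩, get_code _ (idx_lt p), pt_idx, e]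

/-! ### The fixed space -/

/-- The elements of the fixed space. -/
def wImg : List ℕ := (List.range 64).map (comb wB)

/-- The vectors moved into the fixed space. -/
def inU (s : ℕ) : Bool := [1, 2, 4, 8].all fun j => decide (dif (fixL.getD j 0) s ∈ wImg)

theorem w_spec :
    ((wB.all fun b => decide (b < 2048) && (List.range 16).all fun j => act (fixL.getD j 0) b == b) &&
    (wB.length == 6) && decide wImg.Nodup &&
    ((spanL ([1, 2, 4, 8].foldl (fun F j => kerStep (fixL.getD j 0) F) ((List.range 11).map (2 ^ ·)))).all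
      fun s => decide (s ∈ wImg)) &&
    ((List.range 24).all fun i => (List.range 24).all fun j =>
      !octMask.testBit i || !octMask.testBit j || decide (synD i j ∈ wImg)) &&
    (uB.all fun u => decide (u < 2048) && (List.range 16).all fun j => decide (dif (fixL.getD j 0) u ∈ wImg)) &&
    (uB.length == 10) && decide ((List.range 1024).map (comb uB)).Nodup &&
    decide (noU < 2048) && !inU noU) = true := by
  decide +kernel

theorem w_parts :
    (∀ b ∈ wB, b < 2048 ∧ ∀ j < 16, act (fixL.getD j 0) b = b) ∧ wB.length = 6 ∧ wImg.Nodup ∧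
    (∀ s ∈ spanL ([1, 2, 4, 8].foldl (fun F j => kerStep (fixL.getD j 0) F) ((List.range 11).map (2 ^ ·))),
      s ∈ wImg) ∧
    (∀ i < 24, ∀ j < 24, octMask.testBit i = true → octMask.testBit j = true → synD i j ∈ wImg) ∧
    (∀ u ∈ uB, u < 2048 ∧ ∀ j < 16, dif (fixL.getD j 0) u ∈ wImg) ∧
    uB.length = 10 ∧ ((List.range 1024).map (comb uB)).Nodup ∧ noU < 2048 ∧ inU noU = false := by
  have h := w_spec
  simp only [Bool.and_eq_true, decide_eq_true_eq, beq_iff_eq, List.all_eq_true (l := wB),
    List.all_eq_true (l := uB), Bool.not_eq_true'] at h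
  obtain ⟨⟨⟨⟨⟨⟨⟨⟨⟨h1, h2⟩, h3⟩, h4⟩, h5⟩, h6⟩, h7⟩, h8⟩, h9⟩, h10⟩ := h
  refine ⟨fun b hb => ⟨(h1 b hb).1, fun j hj => ?_⟩, h2, h3, ?_, ?_, fun u hu => ⟨(h6 u hu).1, fun j hj => ?_⟩,
    h7, h8, h9, h10⟩
  · exact beq_iff_eq.1 (List.all_eq_true.1 (h1 b hb).2 j (List.mem_range.2 hj))
  · exact fun s hs => of_decide_eq_true (List.all_eq_true.1 h4 s hs)
  · intro i hi j hj a b
    have := List.all_eq_true.1 (List.all_eq_true.1 h5 i (List.mem_range.2 hi)) j (List.mem_range.2 hj)
    simpa [a, b] using this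
  · exact of_decide_eq_true (List.all_eq_true.1 (h6 u hu).2 j (List.mem_range.2 hj))

theorem wB_lt (n : ℕ) : comb wB n < 2048 := comb_lt (n := 11) (fun b hb => (w_parts.1 b hb).1) n

theorem uB_lt (n : ℕ) : comb uB n < 2048 := comb_lt (n := 11) (fun b hb => (w_parts.2.2.2.2.2.1 b hb).1) n

theorem act_wB {j : ℕ} (hj : j < 16) (n : ℕ) : act (fixL.getD j 0) (comb wB n) = comb wB n := by
  rw [act_comb, List.map_congr_left (g := id) fun b hb => (w_parts.1 b hb).2 j hj, List.map_id]

theorem mem_wImg {s : ℕ} : s ∈ wImg ↔ ∃ a < 64, comb wB a = s := by simp [wImg, List.mem_map, List.mem_range]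

theorem comb_wB_mem (n : ℕ) : comb wB n ∈ wImg :=
  mem_wImg.2 ⟨n % 2 ^ wB.length, Nat.mod_lt _ (Nat.two_pow_pos _) |>.trans_le (by rw [w_parts.2.1]),
    (comb_mod wB n).symm⟩

theorem wImg_xor {a b : ℕ} (ha : a ∈ wImg) (hb : b ∈ wImg) : a ^^^ b ∈ wImg := by
  obtain ⟨x, -, rfl⟩ := mem_wImg.1 ha
  obtain ⟨y, -, rfl⟩ := mem_wImg.1 hb
  rw [← comb_xor]
  exact comb_wB_mem _

theorem act_of_wImg {s j : ℕ} (hs : s ∈ wImg) (hj : j < 16) : act (fixL.getD j 0) s = s := by
  obtain ⟨a, -, rfl⟩ := mem_wImg.1 hs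
  exact act_wB hj a

theorem lt_of_wImg {s : ℕ} (hs : s ∈ wImg) : s < 2048 := by
  obtain ⟨a, -, rfl⟩ := mem_wImg.1 hs
  exact wB_lt a

/-- The fixed space of the octad group. -/
theorem mem_wImg_of_fixed {s : ℕ} (hs : s < 2048) (h : ∀ j < 16, act (fixL.getD j 0) s = s) : s ∈ wImg := by
  refine w_parts.2.2.2.1 s ?_
  simp only [List.foldl_cons, List.foldl_nil]
  exact kerStep_spec (kerStep_spec (kerStep_spec (kerStep_spec (mem_spanL_two_pow 11 s hs) (h 1 (by norm_num)))
    (h 2 (by norm_num))) (h 4 (by norm_num))) (h 8 (by norm_num))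

theorem dif_uB {j : ℕ} (hj : j < 16) (n : ℕ) : dif (fixL.getD j 0) (comb uB n) ∈ wImg := by
  rw [dif_comb]
  have key : ∀ (L : List ℕ), (∀ b ∈ L, b ∈ wImg) → ∀ n, comb L n ∈ wImg := by
    intro L
    induction L with
    | nil => intro _ n; simpa [comb, comb_zero] using comb_wB_mem 0
    | cons a l ih =>
      intro h n
      rw [comb]
      refine wImg_xor ?_ (ih (fun b hb => h b (List.mem_cons_of_mem _ hb)) _)
      split
      · exact h a List.mem_cons_self
      · simpa [comb_zero] using comb_wB_mem 0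
  refine key _ (fun b hb => ?_) n
  rw [List.mem_map] at hb
  obtain ⟨u, hu, rfl⟩ := hb
  exact (w_parts.2.2.2.2.2.1 u hu).2 j hj

theorem inU_iff {s : ℕ} : inU s = true ↔ ∀ j ∈ [1, 2, 4, 8], dif (fixL.getD j 0) s ∈ wImg := by
  simp [inU]

theorem inU_xor {a b : ℕ} (ha : inU a = true) (hb : inU b = true) : inU (a ^^^ b) = true := by
  rw [inU_iff] at ha hb ⊢
  exact fun j hj => by rw [dif_xor]; exact wImg_xor (ha j hj) (hb j hj)

theorem inU_comb (n : ℕ) : inU (comb uB n) = true :=
  inU_iff.2 fun j hj => dif_uB (by simp only [List.mem_cons, List.not_mem_nil, or_false] at hj; omega) n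

/-- The vectors moved into the fixed space are exactly 1024. -/
theorem exists_uB {s : ℕ} (hs : s < 2048) (h : inU s = true) : ∃ n < 1024, comb uB n = s := by
  classical
  have himg : ((Finset.range 1024).image (comb uB)).card = 1024 := by
    rw [show ((Finset.range 1024).image (comb uB)) = ((List.range 1024).map (comb uB)).toFinset from by
      ext x; simp, List.toFinset_card_of_nodup w_parts.2.2.2.2.2.2.2.1]
    simp
  by_contra hne
  push Not at hne
  set A := (Finset.range 1024).image (comb uB)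
  have hA : ∀ x ∈ A, x < 2048 ∧ inU x = true := fun x hx => by
    obtain ⟨n, -, rfl⟩ := Finset.mem_image.1 hx
    exact ⟨uB_lt n, inU_comb n⟩
  have hsA : s ∉ A := fun hx => by
    obtain ⟨n, hn, e⟩ := Finset.mem_image.1 hx
    exact hne n (Finset.mem_range.1 hn) e
  have hd : Disjoint A (A.image (s ^^^ ·)) := Finset.disjoint_left.2 fun x hx hx' => by
    obtain ⟨y, hy, rfl⟩ := Finset.mem_image.1 hx'
    obtain ⟨a, -, ea⟩ := Finset.mem_image.1 hx
    obtain ⟨b, -, eb⟩ := Finset.mem_image.1 hy
    refine hsA (Finset.mem_image.2 ⟨(a ^^^ b) % 2 ^ uB.length, ?_, ?_⟩)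
    · rw [Finset.mem_range, w_parts.2.2.2.2.2.2.1]
      exact Nat.mod_lt _ (by norm_num)
    · rw [← comb_mod, comb_xor, ea, eb, Nat.xor_assoc, Nat.xor_self, Nat.xor_zero]
  have hall : A ∪ A.image (s ^^^ ·) = Finset.range 2048 := by
    refine Finset.eq_of_subset_of_card_le (fun x hx => ?_) ?_
    · rw [Finset.mem_union] at hx
      rcases hx with hx | hx
      · exact Finset.mem_range.2 (hA x hx).1
      · obtain ⟨y, hy, rfl⟩ := Finset.mem_image.1 hx
        exact Finset.mem_range.2 (Nat.xor_lt_two_pow (n := 11) hs (hA y hy).1)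
    · rw [Finset.card_union_of_disjoint hd, Finset.card_image_of_injective _ (fun a b e => Nat.xor_right_injective e),
        himg, Finset.card_range]
  have hno := Finset.mem_range.2 w_parts.2.2.2.2.2.2.2.2.1
  rw [← hall, Finset.mem_union] at hno
  have := w_parts.2.2.2.2.2.2.2.2.2
  rcases hno with hx | hx
  · simp [(hA _ hx).2] at this
  · obtain ⟨y, hy, e⟩ := Finset.mem_image.1 hx
    rw [← e, inU_xor h (hA y hy).2] at this
    simp at this

end CfsgLib.J4Ten
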