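import Cfsg.Agent.Golay.Cert
import Cfsg.Agent.Golay.SylowCertData

/-!
Syndromes of the code and permutations stored as numbers: computational definitions.
-/

set_option autoImplicit false

namespace CfsgLib.J4Ten

open Cfsg CfsgLib.Golay

/-- The syndrome of a set of positions. -/
def syn (m : ℕ) : ℕ := ((m ^^^ word (m % 4096)) >>> 12) &&& 2047

/-- The syndrome of a pair of positions. -/
def synD (i j : ℕ) : ℕ := syn ((1 <<< i) ^^^ (1 <<< j))

theorem syn_lt (m : ℕ) : syn m < 2048 := Nat.lt_succ_of_le Nat.and_le_right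

theorem synD_lt (i j : ℕ) : synD i j < 2048 := syn_lt _

/-- The number encoding a position list. -/
def encL : List ℕ → ℕ
  | [] => 0
  | a :: l => a + 32 * encL l

/-- The entry of an encoded list. -/
def get (n i : ℕ) : ℕ := (n >>> (5 * i)) &&& 31

theorem get_encL : ∀ (l : List ℕ), (∀ a ∈ l, a < 32) → ∀ i, get (encL l) i = l.getD i 0 := by
  intro l
  induction l with
  | nil => intro _ i; simp [get, encL]
  | cons a l ih =>
    intro h i
    have ha : a < 32 := h a List.mem_cons_self
    rcases i with _ | i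
    · simp only [get, encL, Nat.mul_zero, Nat.shiftRight_zero, List.getD_cons_zero]
      rw [show (31 : ℕ) = 2 ^ 5 - 1 from rfl, Nat.and_two_pow_sub_one_eq_mod]
      omega
    · rw [List.getD_cons_succ, ← ih (fun b hb => h b (List.mem_cons_of_mem _ hb)) i]
      simp only [get, encL]
      rw [show 5 * (i + 1) = 5 + 5 * i by ring, Nat.shiftRight_add, Nat.shiftRight_eq_div_pow _ 5,
        show (2 : ℕ) ^ 5 = 32 from rfl, Nat.add_mul_div_left _ _ (by norm_num), Nat.div_eq_of_lt ha,
        Nat.zero_add]

/-- The number of a permutation. -/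
def code (σ : Equiv.Perm GolayPt) : ℕ := encL (toList σ)

theorem get_code (σ : Equiv.Perm GolayPt) {i : ℕ} (hi : i < 24) : get (code σ) i = idx (σ (pt i)) := by
  rw [code, get_encL _ (fun a ha => ?_), toList_getD σ hi]
  simp only [toList, List.mem_map] at ha
  obtain ⟨j, -, rfl⟩ := ha
  exact (idx_lt _).trans (by norm_num)

theorem code_injective : Function.Injective code := fun σ τ h => Equiv.ext fun p => idx_injective (by
  have h1 := get_code σ (idx_lt p)
  have h2 := get_code τ (idx_lt p)
  rw [pt_idx] at h1 h2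
  rw [← h1, ← h2, h])

/-- Composition of codes. -/
def comp (F K : ℕ) : ℕ := encL ((List.range 24).map fun i => get F (get K i))

theorem comp_code (σ τ : Equiv.Perm GolayPt) : comp (code σ) (code τ) = code (σ * τ) := by
  unfold comp
  conv_rhs => rw [code, toList]
  refine congrArg encL (List.map_congr_left fun i hi => ?_)
  rw [get_code τ (List.mem_range.1 hi), get_code σ (idx_lt _), pt_idx]
  rfl

/-- The code of the identity. -/
def oneCode : ℕ := encL (List.range 24)

theorem code_one : code 1 = oneCode := by rw [code, toList_one]; rfl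

/-- Commutation of two codes. -/
def comm (F K : ℕ) : Bool := (List.range 24).all fun i => get F (get K i) == get K (get F i)

theorem comm_code {σ τ : Equiv.Perm GolayPt} (h : σ * τ = τ * σ) : comm (code σ) (code τ) = true := by
  simp only [comm, List.all_eq_true, List.mem_range, beq_iff_eq]
  intro i hi
  rw [get_code τ hi, get_code σ hi, get_code σ (idx_lt _), get_code τ (idx_lt _), pt_idx, pt_idx]
  exact congrArg (fun u : Equiv.Perm GolayPt => idx (u (pt i))) h

/-- The columns of the action on syndromes. -/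
def cols (F : ℕ) : List ℕ := (List.range 11).map fun k => synD (get F (12 + k)) (get F 23)

/-- The action on syndromes. -/
def act (F s : ℕ) : ℕ := comb (cols F) s

/-- Moved by the code. -/
def dif (F s : ℕ) : ℕ := act F s ^^^ s

theorem comb_zero : ∀ L : List ℕ, comb L 0 = 0 := by
  intro L
  induction L with
  | nil => rfl
  | cons a l ih => simp [comb, ih]

theorem comb_two_pow : ∀ (L : List ℕ) (k : ℕ), comb L (2 ^ k) = L.getD k 0 := by
  intro L
  induction L with
  | nil => intro k; simp [comb]
  | cons a l ih =>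
    intro k
    rcases k with _ | k
    · simp [comb, comb_zero]
    · simp [comb, pow_succ', ih k]

theorem comb_lt {L : List ℕ} {n : ℕ} (h : ∀ a ∈ L, a < 2 ^ n) : ∀ s, comb L s < 2 ^ n := by
  induction L with
  | nil => intro s; exact Nat.two_pow_pos n
  | cons a l ih =>
    intro s
    rw [comb]
    refine Nat.xor_lt_two_pow ?_ (ih (fun b hb => h b (List.mem_cons_of_mem _ hb)) _)
    split
    · exact h a List.mem_cons_self
    · exact Nat.two_pow_pos n

theorem act_lt (F s : ℕ) : act F s < 2048 := comb_lt (n := 11) (fun a ha => by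
  simp only [cols, List.mem_map] at ha
  obtain ⟨k, -, rfl⟩ := ha
  exact synD_lt _ _) s

theorem dif_lt {s : ℕ} (F : ℕ) (hs : s < 2048) : dif F s < 2048 :=
  Nat.xor_lt_two_pow (n := 11) (act_lt F s) hs

theorem act_xor (F a b : ℕ) : act F (a ^^^ b) = act F a ^^^ act F b := comb_xor _ a b

theorem dif_xor (F a b : ℕ) : dif F (a ^^^ b) = dif F a ^^^ dif F b := by
  simp only [dif, act_xor]
  ac_rfl

theorem act_zero (F : ℕ) : act F 0 = 0 := comb_zero _

/-- All sums of members of a list. -/
def spanL : List ℕ → List ℕ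
  | [] => [0]
  | b :: l => spanL l ++ (spanL l).map (b ^^^ ·)

theorem length_spanL : ∀ B : List ℕ, (spanL B).length = 2 ^ B.length := by
  intro B
  induction B with
  | nil => rfl
  | cons a l ih => simp [spanL, ih, pow_succ]; omega

/-- Additive functions agreeing on the powers of two agree. -/
theorem xor_ext {M : Type*} [Mul M] {f g : ℕ → M} {n : ℕ}
    (h0 : f 0 = g 0) (hb : ∀ k < n, f (2 ^ k) = g (2 ^ k))
    (hf : ∀ a b, a < 2 ^ n → b < 2 ^ n → f (a ^^^ b) = f a * f b)
    (hg : ∀ a b, a < 2 ^ n → b < 2 ^ n → g (a ^^^ b) = g a * g b) : ∀ s < 2 ^ n, f s = g s := by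
  intro s hs
  have key : ∀ j ≤ n, ∀ t < 2 ^ j, f t = g t := by
    intro j
    induction j with
    | zero => intro _ t ht; rw [pow_zero, Nat.lt_one_iff] at ht; rw [ht, h0]
    | succ j ih =>
      intro hj t ht
      have hjn : j ≤ n := Nat.le_of_succ_le hj
      by_cases hlt : t < 2 ^ j
      · exact ih hjn t hlt
      have h1 : t ^^^ 2 ^ j < 2 ^ j := by
        refine Nat.lt_pow_two_of_testBit _ fun i hi => ?_
        rw [Nat.testBit_xor, Nat.testBit_two_pow]
        rcases Nat.eq_or_lt_of_le hi with rfl | hi'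
        · rw [Nat.testBit_of_two_pow_le_and_two_pow_add_one_gt (by omega) ht]
          simp
        · rw [Nat.testBit_lt_two_pow (lt_of_lt_of_le ht (Nat.pow_le_pow_right (by norm_num) hi'))]
          simp [Nat.ne_of_lt hi']
      have h2 : 2 ^ j < 2 ^ n := Nat.pow_lt_pow_right (by norm_num) hj
      have h3 := h1.trans h2
      calc f t = f ((t ^^^ 2 ^ j) ^^^ 2 ^ j) := by rw [Nat.xor_assoc, Nat.xor_self, Nat.xor_zero]
        _ = g ((t ^^^ 2 ^ j) ^^^ 2 ^ j) := by rw [hf _ _ h3 h2, hg _ _ h3 h2, ih hjn _ h1, hb j hj]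
        _ = g t := by rw [Nat.xor_assoc, Nat.xor_self, Nat.xor_zero]
  exact key n le_rfl s hs

end CfsgLib.J4Ten
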